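import Cfsg.Agent.Lib.Fusion.Stabilizer
import Cfsg.Agent.Lib.LocalEven.StronglyEmbedded

/-!
# Automorphism groups of an elementary abelian group of order `p ^ 3`

With a strongly `p`-embedded subgroup, the Sylow `p`-subgroups have order at most `p`; a transvection
in the group comes with a torus.
-/

set_option autoImplicit false

set_option linter.unusedSectionVars false

open Cfsg
open Subgroup

namespace CfsgLib.Fusion.MaxClassCube

variable {V : Type*} [CommGroup V] [Finite V] {p : ℕ} [hp : Fact p.Prime]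

/-- A transvection with centre generated by `c`. -/
structure Trans (z : MulAut V) (c : V) : Prop where
  ne : z ≠ 1
  fix : z c = c
  move : ∀ v, v⁻¹ * z v ∈ zpowers c

omit [Finite V] in
theorem Trans.ne_one {z : MulAut V} {c : V} (h : Trans z c) : c ≠ 1 := by
  rintro rfl
  refine h.ne (MulEquiv.ext fun v => ?_)
  have := h.move v
  rw [zpowers_one_eq_bot, mem_bot, inv_mul_eq_one] at this
  exact this.symm

omit [Finite V] in
theorem Trans.zpow_apply {z : MulAut V} {c : V} (h : Trans z c) (k : ℤ) (v : V) :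
    (z ^ k) v = v * (v⁻¹ * z v) ^ k := by
  obtain ⟨m, hm⟩ := mem_zpowers_iff.1 (h.move v)
  have hd : z (v⁻¹ * z v) = v⁻¹ * z v := by rw [← hm, map_zpow, h.fix]
  have hzv : z v = v * (v⁻¹ * z v) := (mul_inv_cancel_left _ _).symm
  generalize v⁻¹ * z v = d at hd hzv
  induction k with
  | zero => simp
  | succ k ih => rw [zpow_add_one, MulAut.mul_apply, hzv, map_mul, ih, ← mul_inv_cancel_right
      ((z ^ (k : ℤ)) d) d, zpow_add_one]
                 have : (z ^ (k : ℤ)) d = d := by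
                   rw [zpow_natCast]
                   exact Function.IsFixedPt.iterate (f := fun x => z x) hd k |> fun e => by
                     have e' : ∀ j : ℕ, (z ^ j) d = d := fun j => by
                       induction j with
                       | zero => rfl
                       | succ j ihj => rw [pow_succ, MulAut.mul_apply, hd, ihj]
                     exact e' k
                 rw [this]; group
  | pred k ih =>
    have hd' : z⁻¹ d = d := by conv_lhs => rw [← hd, MulAut.inv_apply_self]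
    have hv' : z⁻¹ v = v * d⁻¹ := by
      conv_lhs => rw [show v = z (v * d⁻¹) by rw [map_mul, map_inv, hd, hzv, mul_inv_cancel_right]]
      rw [MulAut.inv_apply_self]
    have e' : ∀ j : ℕ, ((z⁻¹) ^ j) d = d := fun j => by
      induction j with
      | zero => rfl
      | succ j ihj => rw [pow_succ, MulAut.mul_apply, hd', ihj]
    have hfix : (z ^ (-(k : ℤ))) d⁻¹ = d⁻¹ := by
      rw [zpow_neg, zpow_natCast, ← inv_pow, map_inv, e']
    rw [zpow_sub_one, MulAut.mul_apply, hv', map_mul, ih, hfix, zpow_sub_one, mul_assoc]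

theorem Trans.conj {z : MulAut V} {c : V} (h : Trans z c) (g : MulAut V) :
    Trans (g * z * g⁻¹) (g c) := by
  refine ⟨fun e => h.ne ?_, by simp [h.fix], fun v => ?_⟩
  · simpa [mul_assoc] using congrArg (fun y => g⁻¹ * y * g) e
  · obtain ⟨m, hm⟩ := mem_zpowers_iff.1 (h.move (g⁻¹ v))
    refine mem_zpowers_iff.2 ⟨m, ?_⟩
    rw [← map_zpow, hm]
    simp

omit [CommGroup V] in
theorem zpowers_eq_of_mem {G : Type*} [Group G] {c d : G} (hc : c ^ p = 1) (hd : d ∈ zpowers c)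
    (hd1 : d ≠ 1) : zpowers d = zpowers c := by
  have hc1 : c ≠ 1 := by rintro rfl; simp at hd; exact hd1 hd
  have ho : orderOf c = p := orderOf_eq_prime hc hc1
  obtain ⟨m, rfl⟩ := mem_zpowers_iff.1 hd
  have hfin : Finite (zpowers c) := Nat.finite_of_card_ne_zero (by
    rw [Nat.card_zpowers, ho]; exact hp.out.ne_zero)
  refine eq_of_le_of_card_ge (zpowers_le.2 hd) ?_
  have hod : orderOf (c ^ m) = p := orderOf_eq_prime
    (by rw [← zpow_natCast, ← zpow_mul, mul_comm, zpow_mul, zpow_natCast, hc, one_zpow]) hd1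
  rw [Nat.card_zpowers, Nat.card_zpowers, ho, hod]

omit [Finite V] hp in
theorem mapsTo_of_move {z : MulAut V} {D : Subgroup V} (h : ∀ v, v⁻¹ * z v ∈ D) :
    ∀ v ∈ D, z v ∈ D := fun v hv => by
  simpa using D.mul_mem hv (h v)

omit hp in
theorem mem_iff_of_mapsTo {z : MulAut V} {D : Subgroup V} (h : ∀ v ∈ D, z v ∈ D) (v : V) :
    v ∈ D ↔ z v ∈ D := by
  refine ⟨h v, fun hz => ?_⟩
  have hs : Function.Surjective (fun x : D => (⟨z x, h x x.2⟩ : D)) :=
    Finite.surjective_of_injective fun a b e => Subtype.ext (z.injective (congrArg Subtype.val e :))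
  obtain ⟨x, hx⟩ := hs ⟨z v, hz⟩
  exact z.injective (congrArg Subtype.val hx :) ▸ x.2

/-- Incident transvections generate a `p`-group. -/
theorem isPGroup_of_incident (hV : IsPGroup p V) {z z' : MulAut V} {c c' : V} (h : Trans z c)
    (h' : Trans z' c') (hi : z' c = c ∨ z c' = c') :
    IsPGroup p (closure ({z, z'} : Set (MulAut V))) := by
  wlog hi' : z' c = c generalizing z z' c c'
  · rw [Set.pair_comm]
    exact this h' h hi.symm (hi.resolve_left hi')
  set C : ℕ → Subgroup V := fun i =>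
    if i = 0 then zpowers c else if i = 1 then zpowers c ⊔ zpowers c' else ⊤ with hC
  have hfixC : ∀ y : MulAut V, y c = c → ∀ x ∈ zpowers c, y x = x := by
    rintro y hy _ ⟨m, rfl⟩
    simp [hy]
  have hmaps : ∀ y ∈ ({z, z'} : Set (MulAut V)), ∀ i, ∀ x ∈ C i, y x ∈ C i := by
    intro y hy i x hx
    simp only [hC] at hx ⊢
    split_ifs at hx ⊢
    · have : y x = x := by
        rcases hy with rfl | rfl
        · exact hfixC _ h.fix x hx
        · exact hfixC _ hi' x hx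
      rwa [this]
    · rcases hy with rfl | rfl
      · exact mapsTo_of_move (fun v => mem_sup_left (h.move v)) x hx
      · exact mapsTo_of_move (fun v => mem_sup_right (h'.move v)) x hx
    · exact mem_top _
  have hle : closure ({z, z'} : Set (MulAut V)) ≤ stabSeries (⊤ : Subgroup (MulAut V)) C 2 := by
    refine (closure_le _).2 fun y hy => ⟨mem_top _, fun i _ x => mem_iff_of_mapsTo (hmaps y hy i) x,
      fun i hi x hx => ?_⟩
    interval_cases i
    · simp only [hC, one_ne_zero, zero_add, ↓reduceIte] at hx ⊢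
      rcases hy with rfl | rfl
      · exact h.move x
      · obtain ⟨a, ⟨m, rfl⟩, b, ⟨k, rfl⟩, rfl⟩ := mem_sup.1 hx
        simp [hi', h'.fix]
    · simp only [hC, one_ne_zero, ↓reduceIte]
      rcases hy with rfl | rfl
      · exact mem_sup_left (h.move x)
      · exact mem_sup_right (h'.move x)
  refine isPGroup_of_stabilizes hV _ C 2 (fun x => by simp [hC]) ?_
    fun α hα i hi x hx => (hle hα).2.2 i hi x hx
  intro α hα _ _ x hx
  have hfix : closure ({z, z'} : Set (MulAut V)) ≤ MulAction.stabilizer (MulAut V) c := by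
    refine (closure_le _).2 ?_
    rintro y (rfl | rfl)
    · exact h.fix
    · exact hi'
  exact hfixC α (hfix hα) x (by simpa [hC] using hx)

/-- A `p`-group of automorphisms has a fixed point modulo a proper invariant subgroup. -/
theorem exists_fixed_mod (hV : IsPGroup p V) {P : Subgroup (MulAut V)} (hP : IsPGroup p P)
    {C : Subgroup V} (hC : C ≠ ⊤) (hinv : ∀ x ∈ P, ∀ v ∈ C, x v ∈ C) :
    ∃ v, v ∉ C ∧ ∀ x ∈ P, v⁻¹ * x v ∈ C := by
  let q : P →* MulAut (V ⧸ C) := MonoidHom.mk'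
    (fun x => QuotientGroup.congr C C (x : MulAut V) (by
      ext v
      rw [mem_map]
      refine ⟨?_, fun hv => ⟨(x : MulAut V)⁻¹ v, hinv _ (inv_mem x.2) v hv, by simp⟩⟩
      rintro ⟨w, hw, rfl⟩
      exact hinv _ x.2 w hw))
    fun x y => MulEquiv.ext fun v => by
      obtain ⟨w, rfl⟩ := QuotientGroup.mk_surjective v
      rfl
  have hnt : Nontrivial (V ⧸ C) := QuotientGroup.nontrivial_iff.2 hC
  obtain ⟨j, hj0, hj⟩ := (hV.to_quotient C).nontrivial_iff_card.1 hnt
  have hd : p ∣ Nat.card (V ⧸ C) := hj ▸ dvd_pow_self p hj0.ne'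
  obtain ⟨a, ha, hne⟩ := ((hP.to_subgroup ⊤).map q).exists_fixed_point_of_prime_dvd_card_of_fixed_point (V ⧸ C) hd
    (a := (1 : V ⧸ C)) (fun g => map_one (g : MulAut (V ⧸ C)))
  obtain ⟨v, rfl⟩ := QuotientGroup.mk_surjective a
  refine ⟨v, fun hv => hne ((QuotientGroup.eq_one_iff v).2 hv).symm, fun x hx => ?_⟩
  have h1 : q ⟨x, hx⟩ (v : V ⧸ C) = v := ha ⟨_, mem_map_of_mem q (Subgroup.mem_top _)⟩
  exact QuotientGroup.eq.1 h1.symm

/-- The elements moved into `C`, as a subgroup. -/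
def movedInto (x : MulAut V) (C : Subgroup V) : Subgroup V where
  carrier := {v | v⁻¹ * x v ∈ C}
  one_mem' := by simp
  mul_mem' := by
    intro a b ha hb
    show (a * b)⁻¹ * x (a * b) ∈ C
    rw [map_mul, mul_inv, mul_mul_mul_comm]
    exact mul_mem ha hb
  inv_mem' := by
    intro a ha
    show (a⁻¹)⁻¹ * x a⁻¹ ∈ C
    rw [map_inv, inv_inv, show a * (x a)⁻¹ = (a⁻¹ * x a)⁻¹ by rw [mul_inv, inv_inv]]
    exact inv_mem ha

theorem card_zpowers_of {G : Type*} [Group G] {c : G} (hc : c ^ p = 1) (h1 : c ≠ 1) :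
    Nat.card (zpowers c) = p := by
  rw [Nat.card_zpowers, orderOf_eq_prime hc h1]

theorem card_mul_of_sup {D : Subgroup V} (hexp : ∀ v : V, v ^ p = 1) {w : V} (hw : w ∉ D) :
    Nat.card (zpowers w ⊔ D : Subgroup V) = p * Nat.card D := by
  have hw1 : w ≠ 1 := fun e => hw (e ▸ D.one_mem)
  have hdisj : Disjoint (zpowers w) D := by
    rw [disjoint_iff, eq_bot_iff]
    rintro x ⟨hx, hxD⟩
    by_contra hx1
    rw [mem_bot] at hx1
    exact hw (zpowers_le.1 ((zpowers_eq_of_mem (hexp w) hx hx1).ge.trans (zpowers_le.2 hxD)))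
  have hb : Function.Bijective (fun x : zpowers w × D =>
      (⟨x.1.1 * x.2.1, mul_mem (mem_sup_left x.1.2) (mem_sup_right x.2.2)⟩ :
        (zpowers w ⊔ D : Subgroup V))) := by
    refine ⟨fun a b e => mul_injective_of_disjoint hdisj (congrArg Subtype.val e :), fun x => ?_⟩
    obtain ⟨a, ha, b, hb, e⟩ := mem_sup.1 x.2
    exact ⟨⟨⟨a, ha⟩, ⟨b, hb⟩⟩, Subtype.ext e⟩
  rw [← Nat.card_congr (Equiv.ofBijective _ hb), Nat.card_prod, card_zpowers_of (hexp w) hw1]

theorem eq_top_of_card {D : Subgroup V} {k : ℕ} (hcard : Nat.card V = k) (h : Nat.card D = k) :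
    D = ⊤ :=
  eq_top_of_card_eq _ (h.trans hcard.symm)

/-- A `p`-group of automorphisms of order at least `p ^ 2` contains a transvection. -/
theorem exists_trans_of_card (hexp : ∀ v : V, v ^ p = 1) (hcard : Nat.card V = p ^ 3)
    {P : Subgroup (MulAut V)} (hP : IsPGroup p P) (h2 : p ^ 2 ≤ Nat.card P) :
    ∃ z ∈ P, ∃ c, Trans z c := by
  have hV : IsPGroup p V := IsPGroup.of_card hcard
  have hp2 := hp.out.two_le
  have hne : (⊥ : Subgroup V) ≠ ⊤ := fun e => by
    have h := (card_top (G := V)).symm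
    rw [← e, card_bot, hcard] at h
    have := Nat.one_lt_pow (n := 3) (by norm_num) hp.out.one_lt
    omega
  obtain ⟨c, hc, hcf⟩ := exists_fixed_mod hV hP hne (fun x _ v hv => by
    rw [mem_bot] at hv ⊢; simp [hv])
  have hc1 : c ≠ 1 := fun e => hc (e ▸ one_mem _)
  have hcfix : ∀ x ∈ P, x c = c := fun x hx => (inv_mul_eq_one.1 (mem_bot.1 (hcf x hx))).symm
  set C := zpowers c with hCdef
  have hCfix : ∀ x ∈ P, ∀ v ∈ C, x v = v := by
    rintro x hx _ ⟨m, rfl⟩; simp [hcfix x hx]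
  have hCc : Nat.card C = p := card_zpowers_of (hexp c) hc1
  have hCne : C ≠ ⊤ := fun e => by
    have h := (card_top (G := V)).symm
    rw [← e, hCc, hcard] at h
    have : p ^ 1 < p ^ 3 := Nat.pow_lt_pow_right hp.out.one_lt (by norm_num)
    rw [pow_one] at this; omega
  obtain ⟨w, hw, hwf⟩ := exists_fixed_mod hV hP hCne (fun x hx v hv => by rwa [hCfix x hx v hv])
  set W := zpowers w ⊔ C with hWdef
  have hWc : Nat.card W = p ^ 2 := by rw [hWdef, card_mul_of_sup hexp hw, hCc, pow_two]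
  have hWne : W ≠ ⊤ := fun e => by
    have h := (card_top (G := V)).symm
    rw [← e, hWc, hcard] at h
    have : p ^ 2 < p ^ 3 := Nat.pow_lt_pow_right hp.out.one_lt (by norm_num)
    omega
  have hWC : ∀ x ∈ P, ∀ v ∈ W, v⁻¹ * x v ∈ C := fun x hx v hv =>
    (sup_le (zpowers_le.2 (show w ∈ movedInto x C from hwf x hx))
      (fun u hu => show u⁻¹ * x u ∈ C by rw [hCfix x hx u hu, inv_mul_cancel]; exact one_mem _) :
        W ≤ movedInto x C) hv
  have hWinv : ∀ x ∈ P, ∀ v ∈ W, x v ∈ W := fun x hx v hv => by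
    simpa using W.mul_mem hv (mem_sup_right (hWC x hx v hv))
  obtain ⟨e, he, hef⟩ := exists_fixed_mod hV hP hWne hWinv
  have htop : zpowers e ⊔ W = ⊤ := eq_top_of_card hcard (by
    rw [card_mul_of_sup hexp he, hWc, ← pow_succ'])
  let fA : P →* V := MonoidHom.mk' (fun x => w⁻¹ * (x : MulAut V) w) fun x y => by
    have h1 : (x : MulAut V) (w⁻¹ * (y : MulAut V) w) = w⁻¹ * (y : MulAut V) w :=
      hCfix _ x.2 _ (hwf _ y.2)
    show w⁻¹ * (x : MulAut V) ((y : MulAut V) w) = _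
    rw [map_mul, map_inv] at h1
    rw [← mul_inv_cancel_left ((x : MulAut V) w) ((x : MulAut V) ((y : MulAut V) w)), h1]
    ac_rfl
  let fB : P →* V ⧸ C := MonoidHom.mk' (fun x => QuotientGroup.mk (e⁻¹ * (x : MulAut V) e))
    fun x y => by
    rw [← QuotientGroup.mk_mul]
    refine QuotientGroup.eq.2 ?_
    have h1 := hWC _ x.2 _ (hef _ y.2)
    have : (e⁻¹ * ((x * y : P) : MulAut V) e)⁻¹ * (e⁻¹ * (x : MulAut V) e * (e⁻¹ * (y : MulAut V) e))
        = ((e⁻¹ * (y : MulAut V) e)⁻¹ * (x : MulAut V) (e⁻¹ * (y : MulAut V) e))⁻¹ := by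
      simp only [Subgroup.coe_mul, MulAut.mul_apply, map_mul, map_inv, mul_inv, inv_inv]
      apply Additive.ofMul.injective
      simp only [ofMul_mul, ofMul_inv]
      abel
    rw [this]; exact inv_mem h1
  have hrA : Nat.card fA.range ∣ p := hCc ▸ card_dvd_of_le (by
    rintro _ ⟨x, rfl⟩; exact hwf _ x.2)
  have hrB : Nat.card fB.range ∣ p := by
    have h1 : fB.range ≤ W.map (QuotientGroup.mk' C) := by
      rintro _ ⟨x, rfl⟩; exact ⟨_, hef _ x.2, rfl⟩
    have h2 : W.map (QuotientGroup.mk' C) = ((QuotientGroup.mk' C).comp W.subtype).range := by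
      rw [MonoidHom.range_comp, range_subtype]
    refine (card_dvd_of_le h1).trans (dvd_of_eq ?_)
    rw [h2, ← index_ker]
    have hk : ((QuotientGroup.mk' C).comp W.subtype).ker = C.subgroupOf W := by
      ext v; simp [mem_subgroupOf]
    rw [hk]
    have := (C.subgroupOf W).card_mul_index
    rw [Nat.card_congr (subgroupOfEquivOfLe (le_sup_right : C ≤ W)).toEquiv, hCc, hWc, pow_two]
      at this
    exact Nat.eq_of_mul_eq_mul_left hp.out.pos this
  have hker : ∀ {G : Type _} [Group G] (f : P →* G), Nat.card f.range ∣ p → f.ker ≠ ⊥ := by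
    intro G _ f hf he
    have h := f.ker.card_mul_index
    rw [index_ker, he, card_bot, one_mul] at h
    have := Nat.le_of_dvd hp.out.pos hf
    nlinarith
  have good : ∀ x ∈ P, x ≠ 1 → x w = w → e⁻¹ * x e ∈ C → ∃ z ∈ P, ∃ c, Trans z c := by
    intro x hx hx1 hxw hxe
    refine ⟨x, hx, c, hx1, hcfix x hx, fun v => ?_⟩
    have hW' : W ≤ movedInto x C := fun u hu => hWC x hx u hu
    exact (sup_le (zpowers_le.2 (show e ∈ movedInto x C from hxe)) hW' :
      zpowers e ⊔ W ≤ movedInto x C) (htop ▸ Subgroup.mem_top v)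
  obtain ⟨x, hx, hx1⟩ := (Subgroup.bot_or_exists_ne_one _).resolve_left (hker fA hrA)
  obtain ⟨y, hy, hy1⟩ := (Subgroup.bot_or_exists_ne_one _).resolve_left (hker fB hrB)
  have hxw : (x : MulAut V) w = w :=
    (inv_mul_eq_one.1 (show w⁻¹ * (x : MulAut V) w = 1 from hx)).symm
  have hye : e⁻¹ * (y : MulAut V) e ∈ C := (QuotientGroup.eq_one_iff _).1 hy
  by_cases hxe : e⁻¹ * (x : MulAut V) e ∈ C
  · exact good _ x.2 (fun h => hx1 (Subtype.ext h)) hxw hxe
  by_cases hyw : (y : MulAut V) w = w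
  · exact good _ y.2 (fun h => hy1 (Subtype.ext h)) hyw hye
  by_cases hk : fA.ker ⊓ fB.ker = ⊥
  swap
  · obtain ⟨z, hz, hz1⟩ := (Subgroup.bot_or_exists_ne_one _).resolve_left hk
    exact good _ z.2 (fun h => hz1 (Subtype.ext h))
      (inv_mul_eq_one.1 (show w⁻¹ * (z : MulAut V) w = 1 from hz.1)).symm
      ((QuotientGroup.eq_one_iff _).1 hz.2)
  exfalso
  have hPc : Nat.card P = p ^ 2 := by
    refine le_antisymm ?_ h2
    have h1 := Subgroup.index_inf_le (H := fA.ker) (K := fB.ker)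
    rw [hk, index_bot, index_ker, index_ker] at h1
    rw [pow_two]
    exact h1.trans (Nat.mul_le_mul (Nat.le_of_dvd hp.out.pos hrA) (Nat.le_of_dvd hp.out.pos hrB))
  have hcom := congrArg (fun q : P => (q : MulAut V) e)
    ((IsPGroup.commGroupOfCardEqPrimeSq hPc).mul_comm y x)
  simp only [Subgroup.coe_mul, MulAut.mul_apply] at hcom
  obtain ⟨d, hd⟩ : ∃ d, d = e⁻¹ * (x : MulAut V) e := ⟨_, rfl⟩
  obtain ⟨c1, hc1'⟩ : ∃ c1, c1 = e⁻¹ * (y : MulAut V) e := ⟨_, rfl⟩
  have hxd : (x : MulAut V) e = e * d := by rw [hd, mul_inv_cancel_left]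
  have hyc : (y : MulAut V) e = e * c1 := by rw [hc1', mul_inv_cancel_left]
  rw [← hd] at hxe
  rw [← hc1'] at hye
  rw [hxd, hyc, map_mul, map_mul, hCfix _ x.2 c1 hye, hxd, hyc, mul_right_comm e d c1] at hcom
  have hyd : (y : MulAut V) d = d := mul_left_cancel hcom
  have hle : zpowers d ⊔ C = W := by
    refine eq_of_le_of_card_ge (sup_le (zpowers_le.2 (hd ▸ hef _ x.2)) le_sup_right) ?_
    rw [card_mul_of_sup hexp hxe, hWc, hCc, pow_two]
  have hle2 : zpowers d ⊔ C ≤ MonoidHom.eqLocus ((y : MulAut V).toMonoidHom) (MonoidHom.id V) :=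
    sup_le (zpowers_le.2 hyd) (fun u hu => hCfix _ y.2 u hu)
  exact hyw (hle2 (hle.symm ▸ mem_sup_left (mem_zpowers w)))

section spe

variable {X : Subgroup (MulAut V)} {H : Subgroup X}

theorem mem_conj_of_incident (hV : IsPGroup p V) (hH : IsStronglyPEmbedded p H) {a b g : X}
    {c c' : V} (ha : Trans (a : MulAut V) c) (hb : Trans (b : MulAut V) c')
    (hi : (b : MulAut V) c = c ∨ (a : MulAut V) c' = c') (hag : g⁻¹ * a * g ∈ H) :
    g⁻¹ * b * g ∈ H := by
  have h := isPGroup_of_incident hV ha hb hi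
  have hX : closure ({(a : MulAut V), (b : MulAut V)} : Set (MulAut V)) ≤ X :=
    (closure_le _).2 (by rintro _ (rfl | rfl) <;> exact Subtype.coe_prop _)
  let R : Subgroup X :=
    ((closure ({(a : MulAut V), (b : MulAut V)} : Set (MulAut V))).subgroupOf X).map
      (MulAut.conj g⁻¹).toMonoidHom
  have hR : IsPGroup p R := (h.comap_subtype (K := X)).map _
  have hmem : ∀ x : X, (x : MulAut V) ∈ closure ({(a : MulAut V), (b : MulAut V)} : Set (MulAut V))
      → g⁻¹ * x * g ∈ R := fun x hx => ⟨x, hx, by simp [mul_assoc]⟩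
  have hle := CfsgLib.LocalEven.IsStronglyPEmbedded.pgroup_le hH hR (fun e => ?_)
  · exact hle (hmem b (subset_closure (Or.inr rfl)))
  · have h1 : g⁻¹ * a * g ∈ R ⊓ H := ⟨hmem a (subset_closure (Or.inl rfl)), hag⟩
    rw [e, mem_bot] at h1
    refine ha.ne ?_
    have h2 : a = 1 := by simpa [mul_assoc] using congrArg (fun y => g * y * g⁻¹) h1
    rw [h2]; rfl

/-- A `p`-subgroup of a group of automorphisms with a strongly `p`-embedded subgroup has order
at most `p`. -/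
theorem card_pgroup_le (hexp : ∀ v : V, v ^ p = 1) (hcard : Nat.card V = p ^ 3)
    (hH : IsStronglyPEmbedded p H) {Q : Subgroup X} (hQ : IsPGroup p Q) : Nat.card Q ≤ p := by
  have hV : IsPGroup p V := IsPGroup.of_card hcard
  by_contra hlt
  obtain ⟨P0, -, hP0H, -⟩ := CfsgLib.LocalEven.IsStronglyPEmbedded.exists_sylow hH
  obtain ⟨T, hT⟩ := hQ.exists_le_sylow
  have hP2 : p ^ 2 ≤ Nat.card (P0 : Subgroup X) := by
    obtain ⟨j, hj⟩ := IsPGroup.iff_card.1 P0.2
    have h1 : Nat.card Q ≤ Nat.card (P0 : Subgroup X) :=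
      (card_le_of_le hT).trans (T.card_eq_multiplicity.trans P0.card_eq_multiplicity.symm).le
    rw [hj] at h1 ⊢
    refine Nat.pow_le_pow_right hp.out.pos ?_
    by_contra hj2
    have : p ^ j ≤ p ^ 1 := Nat.pow_le_pow_right hp.out.pos (by omega)
    rw [pow_one] at this
    omega
  obtain ⟨_, ⟨z, hz, rfl⟩, c, hzc⟩ := exists_trans_of_card hexp hcard (P0.2.map X.subtype)
    (by rwa [card_map_of_injective X.subtype_injective])
  change Trans (z : MulAut V) c at hzc
  obtain ⟨g, hg⟩ : ∃ g, g ∉ H := by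
    by_contra h
    push Not at h
    exact hH.2.1 ((eq_top_iff' H).2 h)
  have hne1 : ∀ y : X, y ∈ (P0 : Subgroup X) → y ≠ 1 → ∀ g' : X, g' * y * g'⁻¹ ∈ H → g' ∈ H := by
    intro y hy hy1 g' hg'
    obtain ⟨k, hk⟩ := IsPGroup.iff_orderOf.1 P0.2 ⟨y, hy⟩
    rw [Subgroup.orderOf_mk] at hk
    exact CfsgLib.LocalEven.IsStronglyPEmbedded.mem_of_conj_mem hH (hP0H hy) hk hy1 hg'
  have hz1 : z ≠ 1 := fun e => hzc.ne (by rw [e]; rfl)
  set z' := g * z * g⁻¹ with hz'
  have hz'H : z' ∉ H := fun h => hg (hne1 z hz hz1 g h)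
  set c' := (g : MulAut V) c with hc'
  have hz'c : Trans (z' : MulAut V) c' := by simpa [hz'] using hzc.conj (g : MulAut V)
  have hzc' : (z' : MulAut V) c ≠ c := fun h => hz'H (by
    simpa using mem_conj_of_incident hV hH (g := 1) hzc hz'c (Or.inl h) (by simpa using hP0H hz))
  obtain ⟨x, hx, hxz⟩ : ∃ x ∈ (P0 : Subgroup X), x ∉ zpowers z := by
    by_contra h
    push Not at h
    have h1 := card_le_of_le (show (P0 : Subgroup X) ≤ zpowers z from h)
    have h3 : z ^ p = 1 := Subtype.ext (MulEquiv.ext fun v => by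
      rw [SubmonoidClass.coe_pow, ← zpow_natCast, Trans.zpow_apply hzc, zpow_natCast, hexp, mul_one]
      rfl)
    rw [card_zpowers_of h3 hz1] at h1
    have := hp.out.one_lt
    nlinarith
  set z'' := x * z' * x⁻¹ with hz''
  set c'' := (x : MulAut V) c' with hc''
  have hz''c : Trans (z'' : MulAut V) c'' := by simpa [hz''] using hz'c.conj (x : MulAut V)
  have hnz : (z : MulAut V) c'' ≠ c'' := fun h => by
    refine hz'H ?_
    have h1 : z'' ∈ H := by
      simpa using mem_conj_of_incident hV hH (g := 1) hzc hz''c (Or.inr h) (by simpa using hP0H hz)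
    have h2 := H.mul_mem (H.mul_mem (H.inv_mem (hP0H hx)) h1) (hP0H hx)
    simpa [hz'', mul_assoc] using h2
  obtain ⟨a, ha⟩ := mem_zpowers_iff.1 (hz'c.move c'')
  have hb1 : c⁻¹ * (z' : MulAut V) c ≠ 1 := fun h => hzc' (inv_mul_eq_one.1 h).symm
  obtain ⟨s, hs⟩ : ∃ s : ℤ, (c⁻¹ * (z' : MulAut V) c) ^ s = c' ^ (-a) := mem_zpowers_iff.1
    ((zpowers_eq_of_mem (hexp c') (hz'c.move c) hb1).ge (zpow_mem (mem_zpowers c') _))
  have hd1 : c''⁻¹ * (z : MulAut V) c'' ≠ 1 := fun h => hnz (inv_mul_eq_one.1 h).symm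
  obtain ⟨k, hk⟩ : ∃ k : ℤ, (c''⁻¹ * (z : MulAut V) c'') ^ k = c ^ s := mem_zpowers_iff.1
    ((zpowers_eq_of_mem (hexp c) (hzc.move c'') hd1).ge (zpow_mem (mem_zpowers c) _))
  have hu : (z' : MulAut V) (c'' * c ^ s) = c'' * c ^ s := by
    rw [map_mul, map_zpow, ← mul_inv_cancel_left c'' ((z' : MulAut V) c''), ← ha,
      ← mul_inv_cancel_left c ((z' : MulAut V) c), mul_zpow, hs, zpow_neg]
    simp [mul_comm, mul_left_comm, mul_assoc]
  set zk := z ^ (-k) * z' * (z ^ (-k))⁻¹ with hzk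
  have hzk' : (zk : MulAut V) = ((z ^ (-k) : X) : MulAut V) * z' * ((z ^ (-k) : X) : MulAut V)⁻¹ := by
    simp [hzk]
  have hzkc : Trans (zk : MulAut V) (((z ^ (-k) : X) : MulAut V) c') := by
    rw [hzk']; exact hz'c.conj _
  have hfix : (zk : MulAut V) c'' = c'' := by
    have h1 : (((z ^ (-k) : X) : MulAut V)⁻¹) c'' = c'' * c ^ s := by
      rw [SubgroupClass.coe_zpow, zpow_neg, inv_inv, Trans.zpow_apply hzc, hk]
    rw [hzk', MulAut.mul_apply, MulAut.mul_apply, h1, hu, ← h1, MulAut.apply_inv_self]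
  have hag : (z ^ (-k) * g)⁻¹ * zk * (z ^ (-k) * g) ∈ H := by
    have : (z ^ (-k) * g)⁻¹ * zk * (z ^ (-k) * g) = z := by rw [hzk, hz']; group
    rw [this]; exact hP0H hz
  have h4 := mem_conj_of_incident hV hH hzkc hz''c (Or.inr hfix) hag
  have h5 : ((z ^ (-k) * g)⁻¹ * (x * g)) * z * ((z ^ (-k) * g)⁻¹ * (x * g))⁻¹ ∈ H := by
    have : ((z ^ (-k) * g)⁻¹ * (x * g)) * z * ((z ^ (-k) * g)⁻¹ * (x * g))⁻¹ =
        (z ^ (-k) * g)⁻¹ * z'' * (z ^ (-k) * g) := by rw [hz'', hz']; group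
    rwa [this]
  have h6 := hne1 z hz hz1 _ h5
  have hy : z ^ k * x ∈ (P0 : Subgroup X) := mul_mem (zpow_mem hz _) hx
  have hy1 : z ^ k * x ≠ 1 := fun h => hxz (mem_zpowers_iff.2 ⟨-k, by
    rw [zpow_neg]; exact inv_eq_of_mul_eq_one_right h⟩)
  refine hg ?_
  have h7 : g⁻¹ * (z ^ k * x) * (g⁻¹)⁻¹ ∈ H := by
    have : g⁻¹ * (z ^ k * x) * (g⁻¹)⁻¹ = (z ^ (-k) * g)⁻¹ * (x * g) := by group
    rwa [this]
  simpa using H.inv_mem (hne1 _ hy hy1 _ h7)

/-- A transvection in a group with a strongly `p`-embedded subgroup has an opposite. -/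
theorem exists_opposite (hexp : ∀ v : V, v ^ p = 1) (hV : IsPGroup p V)
    (hH : IsStronglyPEmbedded p H) {z : X} {c : V} (hz : Trans (z : MulAut V) c) :
    ∃ g : X, ((g * z * g⁻¹ : X) : MulAut V) c ≠ c ∧
      (z : MulAut V) ((g : MulAut V) c) ≠ (g : MulAut V) c := by
  obtain ⟨P0, -, hP0H, -⟩ := CfsgLib.LocalEven.IsStronglyPEmbedded.exists_sylow hH
  have hz1 : z ≠ 1 := fun e => hz.ne (by rw [e]; rfl)
  have hzp : z ^ p = 1 := Subtype.ext (MulEquiv.ext fun v => by
    rw [SubmonoidClass.coe_pow, ← zpow_natCast, Trans.zpow_apply hz, zpow_natCast, hexp, mul_one]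
    rfl)
  have hzo : orderOf z = p := orderOf_eq_prime hzp hz1
  obtain ⟨T, hT⟩ := (IsPGroup.of_card (n := 1) (G := zpowers z)
    (by rw [Nat.card_zpowers, hzo, pow_one])).exists_le_sylow
  obtain ⟨h, hh⟩ := MulAction.exists_smul_eq X T P0
  have hmem : h * z * h⁻¹ ∈ H := by
    refine hP0H ?_
    rw [← hh, Sylow.smul_def]
    exact ⟨z, hT (mem_zpowers z), rfl⟩
  obtain ⟨g, hg⟩ : ∃ g, g ∉ H := by
    by_contra h'
    push Not at h'
    exact hH.2.1 ((eq_top_iff' H).2 h')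
  set g' := h⁻¹ * g * h with hg'
  have hz' : Trans ((g' * z * g'⁻¹ : X) : MulAut V) ((g' : MulAut V) c) := by
    simpa using hz.conj (g' : MulAut V)
  have key : ¬ (((g' * z * g'⁻¹ : X) : MulAut V) c = c ∨
      (z : MulAut V) ((g' : MulAut V) c) = (g' : MulAut V) c) := fun hi => hg (by
    have h1 := mem_conj_of_incident hV hH (g := h⁻¹) hz hz' hi (by simpa using hmem)
    refine CfsgLib.LocalEven.IsStronglyPEmbedded.mem_of_conj_mem hH hmem (k := 1) ?_ ?_
      (by simpa [hg', mul_assoc] using h1)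
    · rw [pow_one, ← hzo, ← MulAut.conj_apply]; exact MulEquiv.orderOf_eq _ _
    · simpa [conj_eq_one_iff] using hz1)
  push Not at key
  exact ⟨g', key⟩

theorem pow_val_eq (hexp : ∀ v : V, v ^ p = 1) {u v : ℕ} (huv : (u : ZMod p) * v = 1) (x : V) :
    x ^ (u * v) = x := by
  have h1 : ((u * v : ℕ) : ZMod p) = ((1 : ℕ) : ZMod p) := by rw [Nat.cast_mul, huv, Nat.cast_one]
  rw [ZMod.natCast_eq_natCast_iff'] at h1
  rw [pow_eq_pow_mod _ (hexp x), h1, ← pow_eq_pow_mod _ (hexp x), pow_one]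

/-- The torus attached to a transvection: `c` is its centre, `c'` is moved by `c`, and `L` is a
complementary fixed line. -/
structure Torus (z τ : MulAut V) (u v : ℕ) (c c' : V) (L : Subgroup V) : Prop where
  card_line : Nat.card L = p
  c_notMem : c ∉ L
  trans : Trans z c
  moves : z c' = c' * c
  fixed : ∀ x, z x = x ↔ x ∈ zpowers c ⊔ L
  spans : zpowers c' ⊔ (zpowers c ⊔ L) = ⊤
  tau_c : τ c = c ^ u
  tau_c' : τ c' = c' ^ v
  tau_line : ∀ l ∈ L, τ l = l
  tau_conj : τ * z * τ⁻¹ = z ^ (u * u)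

/-- A transvection in a group with a strongly `p`-embedded subgroup has a torus in the group. -/
theorem exists_torus (hexp : ∀ v : V, v ^ p = 1) (hcard : Nat.card V = p ^ 3)
    (hH : IsStronglyPEmbedded p H) {z : X} {c0 : V} (hz0 : Trans (z : MulAut V) c0) {u v : ℕ}
    (huv : (u : ZMod p) * v = 1) :
    ∃ τ ∈ X, ∃ c c' : V, ∃ L : Subgroup V,
      Torus (p := p) (z : MulAut V) τ u v c c' L := by
  have hV : IsPGroup p V := IsPGroup.of_card hcard
  obtain ⟨g, hg1, hg2⟩ := exists_opposite hexp hV hH hz0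
  set c' := (g : MulAut V) c0 with hc'
  set z' := g * z * g⁻¹ with hz'
  have hz'c : Trans (z' : MulAut V) c' := by simpa [hz'] using hz0.conj (g : MulAut V)
  obtain ⟨c, hc⟩ : ∃ c, c = c'⁻¹ * (z : MulAut V) c' := ⟨_, rfl⟩
  have hc1 : c ≠ 1 := fun h => hg2 (inv_mul_eq_one.1 (hc ▸ h)).symm
  have hcz : zpowers c = zpowers c0 :=
    zpowers_eq_of_mem (hexp c0) (hc ▸ hz0.move c') hc1
  have hzc : Trans (z : MulAut V) c := by
    refine ⟨hz0.ne, ?_, fun w => hcz ▸ hz0.move w⟩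
    obtain ⟨m, hm⟩ := mem_zpowers_iff.1 (hcz ▸ mem_zpowers c : c ∈ zpowers c0)
    rw [← hm, map_zpow, hz0.fix]
  have hmove : (z : MulAut V) c' = c' * c := by rw [hc, mul_inv_cancel_left]
  have hb : c⁻¹ * (z' : MulAut V) c ≠ 1 := fun h => hg1 (by
    obtain ⟨m, hm⟩ := mem_zpowers_iff.1 (hcz.ge (mem_zpowers c0))
    rw [← hm, map_zpow, (inv_mul_eq_one.1 h).symm])
  obtain ⟨i, hi⟩ : ∃ i : ℤ, (c⁻¹ * (z' : MulAut V) c) ^ i = c' :=
    mem_zpowers_iff.1 ((zpowers_eq_of_mem (hexp c') (hz'c.move c) hb).ge (mem_zpowers c'))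
  set y : MulAut V := (z' : MulAut V) ^ i with hy
  have hyc : y c = c * c' := by rw [hy, hz'c.zpow_apply, hi]
  have hymove : ∀ w, w⁻¹ * y w ∈ zpowers c' := fun w => by
    rw [hy, hz'c.zpow_apply, inv_mul_cancel_left]; exact zpow_mem (hz'c.move w) _
  have hyfix : y c' = c' := by
    rw [hy, hz'c.zpow_apply, hz'c.fix, inv_mul_cancel, one_zpow, mul_one]
  have hyT : Trans y c' := by
    refine ⟨fun h => hz'c.ne_one ?_, hyfix, hymove⟩
    rw [h, MulAut.one_apply] at hyc
    exact left_eq_mul.1 hyc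
  have hyX : y ∈ X := zpow_mem z'.2 i
  -- the common fixed line
  set L : Subgroup V :=
    MonoidHom.eqLocus (z : MulAut V).toMonoidHom (MonoidHom.id V) ⊓
      MonoidHom.eqLocus y.toMonoidHom (MonoidHom.id V) with hL
  have hLmem : ∀ x, x ∈ L ↔ (z : MulAut V) x = x ∧ y x = x := fun x => Iff.rfl
  have hzk : ∀ (k : ℤ) x, ((z : MulAut V) ^ k) x = x * (x⁻¹ * (z : MulAut V) x) ^ k :=
    hzc.zpow_apply
  have hsp : zpowers c' ⊔ (zpowers c ⊔ L) = ⊤ := by
    refine (eq_top_iff' _).2 fun x => ?_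
    obtain ⟨j, hj⟩ := mem_zpowers_iff.1 (hzc.move x)
    have hx1 : (z : MulAut V) (x * c' ^ (-j)) = x * c' ^ (-j) := by
      rw [map_mul, map_zpow, hmove, mul_zpow, ← mul_inv_cancel_left x ((z : MulAut V) x), ← hj,
        zpow_neg, zpow_neg]
      simp [mul_comm, mul_assoc]
    obtain ⟨m, hm⟩ := mem_zpowers_iff.1 (hymove (x * c' ^ (-j)))
    have hx2 : x * c' ^ (-j) * c ^ (-m) ∈ L := by
      refine (hLmem _).2 ⟨by rw [map_mul, hx1, map_zpow, hzc.fix], ?_⟩
      rw [map_mul, map_zpow, hyc, mul_zpow, ← mul_inv_cancel_left (x * c' ^ (-j))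
        (y (x * c' ^ (-j))), ← hm, zpow_neg c' m]
      simp [mul_comm, mul_left_comm, mul_assoc]
    have := mul_mem (mem_sup_left (T := zpowers c ⊔ L) (zpow_mem (mem_zpowers c') j))
      (mem_sup_right (mul_mem (mem_sup_left (T := L) (zpow_mem (mem_zpowers c) m))
        (mem_sup_right hx2)))
    convert this using 1
    rw [zpow_neg, zpow_neg]
    simp [mul_comm, mul_left_comm]
  have hcL : c ∉ L := fun h => hz'c.ne_one (left_eq_mul.1 (hyc ▸ ((hLmem c).1 h).2.symm))
  have hc'W : c' ∉ zpowers c ⊔ L := fun h => by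
    have hle : zpowers c ⊔ L ≤ MonoidHom.eqLocus (z : MulAut V).toMonoidHom (MonoidHom.id V) :=
      sup_le (zpowers_le.2 hzc.fix) inf_le_left
    exact hc1 (hc.trans (inv_mul_eq_one.2 (hle h).symm))
  have hLc : Nat.card L = p := by
    have h1 := card_mul_of_sup hexp hc'W
    rw [hsp, card_top, hcard, card_mul_of_sup hexp hcL] at h1
    have hp0 : 0 < p * p := Nat.mul_pos hp.out.pos hp.out.pos
    exact (Nat.eq_of_mul_eq_mul_left hp0 (by rw [mul_assoc p p (Nat.card L), ← h1]; ring)).symm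
  have hfixed : ∀ x, (z : MulAut V) x = x ↔ x ∈ zpowers c ⊔ L := by
    refine fun x => ⟨fun hx => ?_, fun hx => (sup_le (zpowers_le.2 hzc.fix) inf_le_left :
      zpowers c ⊔ L ≤ MonoidHom.eqLocus (z : MulAut V).toMonoidHom (MonoidHom.id V)) hx⟩
    obtain ⟨_, ⟨j, rfl⟩, b, hb', rfl⟩ := mem_sup.1 (hsp ▸ Subgroup.mem_top x :
      x ∈ zpowers c' ⊔ (zpowers c ⊔ L))
    have hbf : (z : MulAut V) b = b := (sup_le (zpowers_le.2 hzc.fix) inf_le_left :
      zpowers c ⊔ L ≤ MonoidHom.eqLocus (z : MulAut V).toMonoidHom (MonoidHom.id V)) hb'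
    simp only [map_mul, map_zpow, hmove, hbf, mul_zpow] at hx
    have hcj : c ^ j = 1 := mul_eq_left.1 (mul_right_cancel hx)
    have hd : (p : ℤ) ∣ j := by
      rw [← orderOf_eq_prime (hexp c) hc1]; exact orderOf_dvd_iff_zpow_eq_one.2 hcj
    obtain ⟨l, rfl⟩ := hd
    simpa [zpow_mul, hexp] using hb'
  -- the Weyl elements
  have hy' : ∀ (k : ℤ), (y ^ k) c = c * c' ^ k := fun k => by
    rw [hyT.zpow_apply, hyc, inv_mul_cancel_left]
  have hyk' : ∀ (k : ℤ), (y ^ k) c' = c' := fun k => by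
    rw [hyT.zpow_apply, hyfix, inv_mul_cancel, one_zpow, mul_one]
  have hzk1 : ∀ (k : ℤ), ((z : MulAut V) ^ k) c = c := fun k => by
    rw [hzk, hzc.fix, inv_mul_cancel, one_zpow, mul_one]
  have hzk2 : ∀ (k : ℤ), ((z : MulAut V) ^ k) c' = c' * c ^ k := fun k => by
    rw [hzk, hmove, inv_mul_cancel_left]
  let w : ℤ → ℤ → MulAut V := fun a b => (z : MulAut V) ^ a * y ^ (-b) * (z : MulAut V) ^ a
  have hw : ∀ a b : ℤ, (∀ x : V, x ^ (a * b) = x) →
      (w a b) c = c' ^ (-b) ∧ (w a b) c' = c ^ a ∧ ∀ l ∈ L, (w a b) l = l := by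
    intro a b hab
    refine ⟨?_, ?_, fun l hl => ?_⟩
    · simp only [w, MulAut.mul_apply, hzk1, hy', map_mul, map_zpow, hzk2]
      rw [mul_zpow, ← zpow_mul, mul_neg, zpow_neg _ (a * b), hab]
      simp [mul_comm]
    · have h1 : (c * c' ^ (-b)) ^ a = c ^ a * c'⁻¹ := by
        rw [mul_zpow, ← zpow_mul, neg_mul, zpow_neg, mul_comm b a, hab]
      show ((z : MulAut V) ^ a) ((y ^ (-b)) (((z : MulAut V) ^ a) c')) = c ^ a
      rw [hzk2, map_mul, hyk', map_zpow, hy', h1, mul_comm c', inv_mul_cancel_right, map_zpow, hzk1]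
    · obtain ⟨hl1, hl2⟩ := (hLmem l).1 hl
      simp only [w, MulAut.mul_apply, hzk, hyT.zpow_apply, hl1, hl2, inv_mul_cancel, one_zpow,
        mul_one]
  obtain ⟨hA1, hA2, hA3⟩ := hw u v (fun x => by
    rw [← Nat.cast_mul, zpow_natCast, pow_val_eq hexp huv])
  obtain ⟨hB1, hB2, hB3⟩ := hw (-1) (-1) (fun x => by simp)
  set τ := w u v * w (-1) (-1) with hτ
  have hτc : τ c = c ^ u := by
    rw [hτ, MulAut.mul_apply, hB1, neg_neg, zpow_one, hA2, zpow_natCast]
  have hτc' : τ c' = c' ^ v := by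
    rw [hτ, MulAut.mul_apply, hB2, map_zpow, hA1, zpow_neg_one, zpow_neg, inv_inv, zpow_natCast]
  have hτl : ∀ l ∈ L, τ l = l := fun l hl => by rw [hτ, MulAut.mul_apply, hB3 l hl, hA3 l hl]
  have hwX : ∀ a b, w a b ∈ X := fun a b =>
    mul_mem (mul_mem (zpow_mem z.2 _) (zpow_mem hyX _)) (zpow_mem z.2 _)
  refine ⟨τ, mul_mem (hwX _ _) (hwX _ _), c, c', L, hLc, hcL, hzc, hmove, hfixed, hsp, hτc, hτc',
    hτl, ?_⟩
  rw [mul_inv_eq_iff_eq_mul, ← zpow_natCast (z : MulAut V)]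
  refine MulEquiv.toMonoidHom_injective (MonoidHom.eq_of_eqOn_top ?_)
  rw [← hsp]
  refine fun x hx => ?_
  refine (sup_le (zpowers_le.2 ?_) (sup_le (zpowers_le.2 ?_) fun l hl => ?_) :
    zpowers c' ⊔ (zpowers c ⊔ L) ≤ MonoidHom.eqLocus (τ * (z : MulAut V)).toMonoidHom
      ((z : MulAut V) ^ ((u * u : ℕ) : ℤ) * τ).toMonoidHom) hx
  · show τ ((z : MulAut V) c') = ((z : MulAut V) ^ ((u * u : ℕ) : ℤ)) (τ c')
    rw [hmove, map_mul, hτc, hτc', map_pow, hzk2, mul_pow, zpow_natCast, ← pow_mul,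
      mul_assoc u u v, pow_mul c u, pow_val_eq hexp huv]
  · show τ ((z : MulAut V) c) = ((z : MulAut V) ^ ((u * u : ℕ) : ℤ)) (τ c)
    rw [hzc.fix, hτc, map_pow, hzk1]
  · show τ ((z : MulAut V) l) = ((z : MulAut V) ^ ((u * u : ℕ) : ℤ)) (τ l)
    rw [((hLmem l).1 hl).1, hτl l hl, hzk, ((hLmem l).1 hl).1, inv_mul_cancel, one_zpow, mul_one]

end spe

end CfsgLib.Fusion.MaxClassCube
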