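import Cfsg.Agent.Lib.Fusion.Centric
import Cfsg.Agent.Lib.Fusion.SmallEssential
import Cfsg.Agent.Lib.Fusion.MaxClassCube.Linear

/-!
# The candidates: centric elementary abelian subgroups of order `p ^ 3` with a strongly `p`-embedded
subgroup in their automorphism group
-/

set_option autoImplicit false
set_option linter.unusedSectionVars false
set_option linter.style.haveILetI false

open Cfsg Cfsg.FusionSystem
open Subgroup
open scoped commutatorElement

namespace CfsgLib.Fusion.MaxClassCube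

variable {Ω : Type*} [Group Ω] {S : Subgroup Ω} [Finite S] {p : ℕ} [hp : Fact p.Prime]
  {F : FusionSystem S}

/-- Strong embedding passes back along bijections. -/
theorem spe_comap {G G' : Type*} [Group G] [Group G'] [Finite G] [Finite G']
    (f : G →* G') (hf : Function.Bijective f) {Y : Subgroup G'} (hY : IsStronglyPEmbedded p Y) :
    IsStronglyPEmbedded p (Y.comap f) := by
  obtain ⟨P, hPne, hPY, hPN⟩ := CfsgLib.LocalEven.IsStronglyPEmbedded.exists_sylow hY
  let e := MulEquiv.ofBijective f hf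
  have hcard : Nat.card G = Nat.card G' := Nat.card_congr e.toEquiv
  have hle : (P : Subgroup G') ≤ f.range := by rw [f.range_eq_top.2 hf.2]; exact le_top
  refine CfsgLib.LocalEven.isStronglyPEmbedded_of_centralizer_le (hcard ▸ hY.1) (fun h => hY.2.1 ?_)
    (P.comapOfInjective f hf.1 hle) ?_ ?_
  · rw [← Subgroup.map_comap_eq_self_of_surjective hf.2 Y, h, Subgroup.map_top_of_surjective f hf.2]
  · intro g hg
    refine hPN _ le_rfl hPne ?_
    rw [Sylow.coe_comapOfInjective, ← Subgroup.comap_normalizer_eq_of_surjective _ hf.2] at hg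
    exact hg
  · intro x hx hxp g hg
    refine CfsgLib.LocalEven.IsStronglyPEmbedded.centralizer_le hY (k := 1) hx
      (by rw [pow_one, ← hxp]; exact orderOf_injective f hf.1 x) (fun h => ?_) ?_
    · rw [← map_one f] at h
      rw [hf.1 h, orderOf_one] at hxp
      exact hp.out.one_lt.ne hxp
    · rw [mem_centralizer_singleton_iff] at hg ⊢
      rw [← map_mul, ← map_mul, hg]

/-- A centric elementary abelian subgroup of order `p ^ 3` whose automorphism group has a strongly
`p`-embedded subgroup. -/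
structure Cand (F : FusionSystem S) (p : ℕ) (E : Subgroup Ω) : Prop where
  le : E ≤ S
  card : Nat.card E = p ^ 3
  comm : ∀ x ∈ E, ∀ y ∈ E, x * y = y * x
  pow : ∀ x ∈ E, x ^ p = 1
  centric : F.IsCentric E
  spe : ∃ H : Subgroup (F.autGroup E), IsStronglyPEmbedded p H

theorem Cand.of_isEssential {E : Subgroup Ω} (hE : F.IsEssential p E)
    (hcard : Nat.card E = p ^ 3) (hel : Cfsg.IsElementaryAbelian p E) : Cand F p E := by
  obtain ⟨hc, -, hn, Y, hY⟩ := hE
  have := finite_of_le hc.1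
  have hcm : ∀ x y : E, x * y = y * x := fun x y => hel.1.is_comm.comm x y
  refine ⟨hc.1, hcard, fun x hx y hy => congrArg Subtype.val (hcm ⟨x, hx⟩ ⟨y, hy⟩), hel.2, hc,
    Y.comap (QuotientGroup.mk' _), spe_comap _ ⟨?_, QuotientGroup.mk'_surjective _⟩ hY⟩
  rw [← MonoidHom.ker_eq_bot_iff, QuotientGroup.ker_mk', eq_bot_iff]
  rintro ⟨a, ha⟩ hx
  obtain ⟨g, hg⟩ : a ∈ Cfsg.Inn E := hx
  refine mem_bot.2 (Subtype.ext (MulEquiv.ext fun y => ?_))
  show a y = y
  rw [← hg, MulAut.conj_apply, hcm g y, mul_inv_cancel_right]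

theorem Cand.of_iso {E E' : Subgroup Ω} (h : Cand F p E) {e : E ≃* E'} (he : IsIso F e) :
    Cand F p E' := by
  have := finite_of_le h.le
  have := finite_of_le he.le_right
  refine ⟨he.le_right, by rw [← Nat.card_congr e.toEquiv, h.card], fun x hx y hy => ?_,
    fun x hx => ?_, ⟨he.le_right, fun Q hQ => h.centric.2 Q (isConj_trans (isConj_iff.2 ⟨e, he⟩) hQ)⟩,
    ?_⟩
  · have := e.symm.injective (a₁ := ⟨x, hx⟩ * ⟨y, hy⟩) (a₂ := ⟨y, hy⟩ * ⟨x, hx⟩)
      (by rw [map_mul, map_mul]; exact Subtype.ext (h.comm _ (SetLike.coe_mem _) _ (SetLike.coe_mem _)))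
    exact congrArg Subtype.val this
  · have := e.symm.injective (a₁ := (⟨x, hx⟩ : E') ^ p) (a₂ := 1)
      (by rw [map_pow, map_one]; exact Subtype.ext (h.pow _ (SetLike.coe_mem _)))
    exact congrArg Subtype.val this
  · obtain ⟨H, hH⟩ := h.spe
    exact ⟨_, spe_comap (autEquiv he).symm.toMonoidHom (autEquiv he).symm.bijective hH⟩

theorem Cand.centralizer_eq {E : Subgroup Ω} (h : Cand F p E) : centralizerIn S E = E :=
  le_antisymm (h.centric.2 E (isConj_refl h.le)) fun x hx =>
    ⟨h.le hx, fun y hy => h.comm y hy x hx⟩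

/-- `C_E(N_S(E))`. -/
def axisOf (S E : Subgroup Ω) : Subgroup Ω :=
  E ⊓ Subgroup.centralizer (normalizerIn S E : Set Ω)

theorem mem_axisOf {E : Subgroup Ω} {a : Ω} :
    a ∈ axisOf S E ↔ a ∈ E ∧ ∀ w ∈ normalizerIn S E, w * a = a * w :=
  Iff.rfl

theorem axisOf_le (E : Subgroup Ω) : axisOf S E ≤ E := inf_le_left

/-- The action of `N_S(E)` on `E`. -/
def actHom (S E : Subgroup Ω) : normalizerIn S E →* MulAut E :=
  E.normalizerMonoidHom.comp (Subgroup.inclusion inf_le_right)

theorem actHom_eq (E : Subgroup Ω) (g : normalizerIn S E) :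
    actHom S E g = normAut (g : Ω) g.2.2 := rfl

theorem range_actHom (E : Subgroup Ω) : (actHom S E).range = autInducedBy S E := by
  ext α
  rw [mem_autInducedBy_iff]
  constructor
  · rintro ⟨g, rfl⟩
    exact ⟨g, g.2.1, fun x => rfl⟩
  · rintro ⟨g, hg, hα⟩
    exact ⟨⟨g, hg, mem_normalizer_of_aut hα⟩, MulEquiv.ext fun x => Subtype.ext (hα x).symm⟩

theorem Cand.mem_ker_iff {E : Subgroup Ω} (h : Cand F p E) (g : normalizerIn S E) :
    actHom S E g = 1 ↔ (g : Ω) ∈ E := by
  constructor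
  · intro hg
    refine h.centralizer_eq.le ⟨g.2.1, fun y hy => ?_⟩
    have h1 := congrArg (fun α : MulAut E => ((α ⟨y, hy⟩ : E) : Ω)) hg
    simp only [MulAut.one_apply] at h1
    change (g : Ω) * y * (g : Ω)⁻¹ = y at h1
    conv_lhs => rw [← h1]
    rw [inv_mul_cancel_right]
  · intro hg
    refine MulEquiv.ext fun x => Subtype.ext ?_
    show (g : Ω) * x * (g : Ω)⁻¹ = x
    rw [h.comm _ hg _ x.2, mul_inv_cancel_right]

theorem Cand.card_normalizerIn (hS : IsPGroup p S) {E : Subgroup Ω} (h : Cand F p E) (hlt : E < S) :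
    Nat.card (normalizerIn S E) = p ^ 4 ∧ Nat.card (autInducedBy S E) = p := by
  have := finite_of_le h.le
  have := finite_of_le (normalizerIn_le (S := S) E)
  obtain ⟨H, hH⟩ := h.spe
  letI : CommGroup E :=
    { (inferInstance : Group E) with mul_comm := fun a b => Subtype.ext (h.comm a a.2 b b.2) }
  have hle := autInducedBy_le_autGroup (F := F) h.le
  have hker : (actHom S E).ker = E.subgroupOf (normalizerIn S E) := by
    ext g
    rw [MonoidHom.mem_ker, h.mem_ker_iff, mem_subgroupOf]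
  have hmul := (actHom S E).ker.card_mul_index
  rw [index_ker, range_actHom, hker,
    Nat.card_congr (subgroupOfEquivOfLe (le_normalizerIn h.le)).toEquiv, h.card] at hmul
  have hcard : Nat.card (autInducedBy S E) ≤ p := by
    rw [← Nat.card_congr (subgroupOfEquivOfLe hle).toEquiv]
    exact card_pgroup_le (fun v : E => Subtype.ext (h.pow v v.2)) h.card hH
      ((isPGroup_autInducedBy hS E).comap_subtype)
  obtain ⟨j, hj⟩ := IsPGroup.iff_card.1 (isPGroup_autInducedBy hS E)
  have hne : j ≠ 0 := by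
    rintro rfl
    rw [hj, pow_zero, mul_one, ← h.card] at hmul
    exact (lt_normalizerIn hS hlt).ne (eq_of_le_of_card_ge (le_normalizerIn h.le) hmul.ge)
  have hj1 : j ≤ 1 := (Nat.pow_le_pow_iff_right hp.out.one_lt).1 (by rw [← hj, pow_one]; exact hcard)
  obtain rfl : j = 1 := by omega
  rw [pow_one] at hj
  rw [hj, ← pow_succ] at hmul
  exact ⟨hmul.symm, hj⟩

theorem Cand.exists_trans (hS : IsPGroup p S) (hS5 : p ^ 5 ≤ Nat.card S) {E : Subgroup Ω}
    (h : Cand F p E) :
    ∃ (z : MulAut E) (c : E), z ∈ autInducedBy S E ∧ autInducedBy S E = Subgroup.zpowers z ∧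
      z ≠ 1 ∧ c ≠ 1 ∧ z c = c ∧ (∀ x, x⁻¹ * z x ∈ Subgroup.zpowers c) ∧
      (∀ x : E, (x : Ω) ∈ axisOf S E ↔ z x = x) ∧ Nat.card (axisOf S E) = p ^ 2 := by
  have := finite_of_le h.le
  have hp0 := hp.out.pos
  have hlt : E < S := lt_of_le_of_ne h.le fun e => by
    rw [← e, h.card] at hS5
    have := (Nat.pow_le_pow_iff_right hp.out.one_lt).1 hS5
    omega
  obtain ⟨hN, hA⟩ := h.card_normalizerIn hS hlt
  set N := normalizerIn S E with hNdef
  have := finite_of_le (normalizerIn_le (S := S) E)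
  obtain ⟨⟨z, hz⟩, hz1⟩ : ∃ x : autInducedBy S E, x ≠ 1 := by
    have : Nontrivial (autInducedBy S E) :=
      Finite.one_lt_card_iff_nontrivial.1 (hA ▸ hp.out.one_lt)
    exact exists_ne 1
  have hz1' : z ≠ 1 := fun e => hz1 (Subtype.ext e)
  have hzgen : autInducedBy S E = Subgroup.zpowers z := by
    refine (eq_of_le_of_card_ge (zpowers_le.2 hz) ?_).symm
    have hd : orderOf z ∣ p := by
      rw [← hA, ← Subgroup.orderOf_mk z hz]; exact orderOf_dvd_natCard _
    rw [hA, Nat.card_zpowers,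
      ((Nat.dvd_prime hp.out).1 hd).resolve_left (fun e => hz1' (orderOf_eq_one_iff.1 e))]
  obtain ⟨g0, hg0, hzg⟩ := mem_autInducedBy_iff.1 hz
  have hax : ∀ x : E, (x : Ω) ∈ axisOf S E ↔ z x = x := by
    intro x
    constructor
    · intro hx
      refine Subtype.ext ?_
      rw [hzg, (mem_axisOf.1 hx).2 g0 ⟨hg0, mem_normalizer_of_aut hzg⟩, mul_inv_cancel_right]
    · intro hx
      refine mem_axisOf.2 ⟨x.2, fun w hw => ?_⟩
      have hfix : autInducedBy S E ≤ MulAction.stabilizer (MulAut E) x := by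
        rw [hzgen, zpowers_le]; exact hx
      have h1 : normAut w hw.2 x = x :=
        hfix (mem_autInducedBy_iff.2 ⟨w, hw.1, fun y => rfl⟩)
      have h2 := congrArg Subtype.val h1
      rw [normAut_apply] at h2
      conv_rhs => rw [← h2]
      rw [inv_mul_cancel_right]
  have hAle : axisOf S E ≤ E := axisOf_le E
  have := finite_of_le (hAle.trans h.le)
  -- the axis is not too small
  have hbig : ¬ Nat.card (axisOf S E) ≤ p := by
    intro hsmall
    have hnN : normalizerIn S N ≤ N := by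
      intro g hg
      refine ⟨hg.1, (conjSub_eq_iff_mem_normalizer (g := g) (P := E)).1 ?_⟩
      by_contra hne
      set B := conjSub g E with hB
      have hBN : B ≤ N := by
        intro b hb
        rw [hB, mem_conjSub] at hb
        have := conj_mem_of_mem_normalizer hg.2 (le_normalizerIn (S := S) h.le hb)
        simpa [mul_assoc] using this
      have hBc : Nat.card B = p ^ 3 := by rw [hB, card_conjSub, h.card]
      have := finite_of_le (hBN.trans (normalizerIn_le (S := S) E))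
      obtain ⟨b, hb, hbE⟩ : ∃ b ∈ B, b ∉ E := SetLike.not_le_iff_exists.1 fun hle =>
        hne (eq_of_le_of_card_ge hle (by rw [h.card, hBc]))
      have hgen : N ≤ E ⊔ Subgroup.zpowers b := by
        refine (eq_of_le_of_card_ge (sup_le (le_normalizerIn h.le) (zpowers_le.2 (hBN hb))) ?_).ge
        have := finite_of_le (sup_le h.le (zpowers_le.2 (normalizerIn_le (S := S) E (hBN hb))))
        obtain ⟨j, hj⟩ := IsPGroup.iff_card.1 (hS.to_le
          (sup_le h.le (zpowers_le.2 (normalizerIn_le E (hBN hb)))) :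
          IsPGroup p (E ⊔ Subgroup.zpowers b : Subgroup Ω))
        rw [hN, hj]
        refine Nat.pow_le_pow_right hp0 ?_
        by_contra hj4
        have h1 : E = E ⊔ Subgroup.zpowers b := eq_of_le_of_card_ge le_sup_left (by
          rw [hj, h.card]; exact Nat.pow_le_pow_right hp0 (by omega))
        exact hbE (h1 ▸ mem_sup_right (mem_zpowers b))
      have hcB : ∀ x ∈ B, ∀ y ∈ B, x * y = y * x := by
        intro x hx y hy
        rw [hB, mem_conjSub] at hx hy
        have := congrArg (fun t => g * t * g⁻¹) (h.comm _ hx _ hy)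
        simpa [mul_assoc] using this
      have hsub : E ⊓ B ≤ axisOf S E := by
        rintro x ⟨hxE, hxB⟩
        refine mem_axisOf.2 ⟨hxE, fun w hw => ?_⟩
        have hle : E ⊔ Subgroup.zpowers b ≤ Subgroup.centralizer ({x} : Set Ω) := sup_le
          (fun y hy => mem_centralizer_singleton_iff.2 (h.comm y hy x hxE))
          (zpowers_le.2 (mem_centralizer_singleton_iff.2 (hcB b hb x hxB)))
        exact mem_centralizer_singleton_iff.1 (hle (hgen hw))
      have h2 : Nat.card B ≤ Nat.card (E ⊓ B : Subgroup Ω) * p := by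
        have e1 := ((E ⊓ B).subgroupOf B).card_mul_index
        rw [Nat.card_congr (subgroupOfEquivOfLe (inf_le_right : E ⊓ B ≤ B)).toEquiv] at e1
        rw [← e1]
        refine Nat.mul_le_mul_left _ ?_
        rw [← Subgroup.relIndex, Subgroup.inf_relIndex_right]
        have h3 : E.relIndex N = p := by
          have := (E.subgroupOf N).card_mul_index
          rw [Nat.card_congr (subgroupOfEquivOfLe (le_normalizerIn h.le)).toEquiv, h.card, hN,
            pow_succ p 3] at this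
          exact Nat.eq_of_mul_eq_mul_left (pow_pos hp0 3) this
        refine (Subgroup.relIndex_le_of_le_right hBN ?_).trans h3.le
        rw [h3]; exact hp.out.ne_zero
      have h4 := (card_le_of_le hsub).trans hsmall
      rw [hBc] at h2
      have h5 := h2.trans (Nat.mul_le_mul_right p h4)
      have : p ^ 2 < p ^ 3 := Nat.pow_lt_pow_right hp.out.one_lt (by norm_num)
      rw [pow_two] at this
      omega
    have hNlt : N < S := lt_of_le_of_ne (normalizerIn_le E) fun e => by
      rw [← e, hN] at hS5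
      have := (Nat.pow_le_pow_iff_right hp.out.one_lt).1 hS5
      omega
    exact (lt_normalizerIn hS hNlt).not_ge hnN
  have hAc : Nat.card (axisOf S E) = p ^ 2 := by
    obtain ⟨j, hj, hje⟩ := (Nat.dvd_prime_pow hp.out).1 (h.card ▸ card_dvd_of_le hAle)
    interval_cases j
    · exact absurd (by rw [hje, pow_zero]; exact hp.out.one_lt.le) hbig
    · exact absurd (by rw [hje, pow_one]) hbig
    · exact hje
    · exfalso
      refine hz1' (MulEquiv.ext fun x => (hax x).1 ?_)
      rw [eq_of_le_of_card_ge hAle (by rw [hje, h.card])]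
      exact x.2
  set Fz : Subgroup E := (axisOf S E).subgroupOf E with hFz
  have hFzc : Nat.card Fz = p ^ 2 := by
    rw [hFz, Nat.card_congr (subgroupOfEquivOfLe hAle).toEquiv, hAc]
  have hFzi : Fz.index = p := by
    have := Fz.card_mul_index
    rw [hFzc, h.card, pow_succ p 2] at this
    exact Nat.eq_of_mul_eq_mul_left (pow_pos hp0 2) this
  have hcm : ∀ a b : E, a * b = b * a := fun a b => Subtype.ext (h.comm a a.2 b b.2)
  let d : E →* E := MonoidHom.mk' (fun x => x⁻¹ * z x) fun a b => by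
    rw [map_mul, _root_.mul_inv_rev]
    calc b⁻¹ * a⁻¹ * (z a * z b) = a⁻¹ * b⁻¹ * (z a * z b) := by rw [hcm b⁻¹ a⁻¹]
      _ = a⁻¹ * (b⁻¹ * z a) * z b := by group
      _ = a⁻¹ * (z a * b⁻¹) * z b := by rw [hcm b⁻¹ (z a)]
      _ = a⁻¹ * z a * (b⁻¹ * z b) := by group
  have hdker : d.ker = Fz := by
    ext x
    rw [MonoidHom.mem_ker, hFz, mem_subgroupOf, hax]
    show x⁻¹ * z x = 1 ↔ _
    rw [inv_mul_eq_one, eq_comm]
  have hdr : Nat.card d.range = p := by rw [← index_ker, hdker, hFzi]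
  obtain ⟨⟨c, hc⟩, hc1⟩ : ∃ x : d.range, x ≠ 1 := by
    have : Nontrivial d.range := Finite.one_lt_card_iff_nontrivial.1 (hdr ▸ hp.out.one_lt)
    exact exists_ne 1
  have hc1' : c ≠ 1 := fun e => hc1 (Subtype.ext e)
  have hrange : d.range = Subgroup.zpowers c := by
    refine (eq_of_le_of_card_ge (zpowers_le.2 hc) ?_).symm
    rw [hdr, Nat.card_zpowers, orderOf_eq_prime (Subtype.ext (h.pow c c.2)) hc1']
  have hzc : z c = c := by
    by_contra hne
    -- otherwise `z` is bijective on the line spanned by `c` with a fixed point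
    have h1 : c⁻¹ * z c ∈ Subgroup.zpowers c := hrange ▸ ⟨c, rfl⟩
    obtain ⟨m, hm⟩ := mem_zpowers_iff.1 h1
    have hzm : z c = c ^ (1 + m) := by rw [zpow_one_add, hm, mul_inv_cancel_left]
    have hit : ∀ i : ℕ, (z ^ i) c = c ^ ((1 + m) ^ i) := by
      intro i
      induction i with
      | zero => simp
      | succ i ih => rw [pow_succ, MulAut.mul_apply, hzm, map_zpow, ih, ← zpow_mul, pow_succ]
    have hzp : z ^ p = 1 := by
      have h2 := congrArg Subtype.val (pow_card_eq_one' (x := (⟨z, hz⟩ : autInducedBy S E)))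
      rwa [hA] at h2
    have h2 := hit p
    rw [hzp, MulAut.one_apply] at h2
    have hord : orderOf c = p := orderOf_eq_prime (Subtype.ext (h.pow c c.2)) hc1'
    have h3 : c ^ ((1 + m) ^ p - 1) = 1 := by rw [zpow_sub_one, ← h2, mul_inv_cancel]
    have h4 := orderOf_dvd_iff_zpow_eq_one.2 h3
    rw [hord] at h4
    have h5 := (ZMod.intCast_zmod_eq_zero_iff_dvd _ p).2 h4
    push_cast at h5
    rw [ZMod.pow_card] at h5
    have h6 : ((m : ℤ) : ZMod p) = 0 := by linear_combination h5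
    rw [ZMod.intCast_zmod_eq_zero_iff_dvd] at h6
    refine hne ?_
    rw [hzm, zpow_one_add, orderOf_dvd_iff_zpow_eq_one.1 (hord.symm ▸ h6), mul_one]
  exact ⟨z, c, hz, hzgen, hz1', hc1', hzc, fun x => hrange ▸ ⟨x, rfl⟩, hax, hAc⟩

/-- A torus on `E` in the fusion system. -/
structure Tor (F : FusionSystem S) (p : ℕ) (E : Subgroup Ω) (τ : MulAut E) (u v : ℕ) (c c' l : Ω) :
    Prop where
  mem : τ ∈ F.autGroup E
  c_mem : c ∈ E
  c'_mem : c' ∈ E
  l_mem : l ∈ E
  l_ne : l ≠ 1
  c_notMem : c ∉ Subgroup.zpowers l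
  axis : axisOf S E = Subgroup.zpowers c ⊔ Subgroup.zpowers l
  c'_notMem : c' ∉ axisOf S E
  comm_mem : ∀ w ∈ normalizerIn S E, ∀ e ∈ E, ⁅w, e⁆ ∈ Subgroup.zpowers c
  conj_eq : ∀ g ∈ autInducedBy S E, τ * g * τ⁻¹ = g ^ (u * u)
  tau_c : ∀ h : c ∈ E, (τ ⟨c, h⟩ : Ω) = c ^ u
  tau_c' : ∀ h : c' ∈ E, (τ ⟨c', h⟩ : Ω) = c' ^ v
  tau_l : ∀ h : l ∈ E, (τ ⟨l, h⟩ : Ω) = l
  inv : (u : ZMod p) * v = 1
  prim : ∀ m : ℕ, (u : ZMod p) ^ m = 1 → (p - 1) ∣ m

theorem exists_generator_mod :
    ∃ u v : ℕ, (u : ZMod p) * v = 1 ∧ ∀ m : ℕ, (u : ZMod p) ^ m = 1 → (p - 1) ∣ m := by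
  obtain ⟨g, hg⟩ := IsCyclic.exists_generator (α := (ZMod p)ˣ)
  refine ⟨(g : ZMod p).val, ((g⁻¹ : (ZMod p)ˣ) : ZMod p).val, by
    rw [ZMod.natCast_zmod_val, ZMod.natCast_zmod_val, ← Units.val_mul, mul_inv_cancel,
      Units.val_one], fun m hm => ?_⟩
  rw [ZMod.natCast_zmod_val, ← Units.val_pow_eq_pow_val, Units.val_eq_one] at hm
  have h1 := orderOf_dvd_of_pow_eq_one hm
  rwa [orderOf_eq_card_of_forall_mem_zpowers hg, Nat.card_eq_fintype_card, ZMod.card_units] at h1

theorem Cand.exists_tor (hS : IsPGroup p S) (hS5 : p ^ 5 ≤ Nat.card S) {E : Subgroup Ω}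
    (h : Cand F p E) : ∃ τ u v c c' l, Tor F p E τ u v c c' l := by
  have := finite_of_le h.le
  obtain ⟨z, c0, hz, hzgen, hz1, -, hzc, hmove, hax, -⟩ := h.exists_trans hS hS5
  obtain ⟨H, hH⟩ := h.spe
  obtain ⟨u, v, huv, hprim⟩ := exists_generator_mod (p := p)
  letI : CommGroup E :=
    { (inferInstance : Group E) with mul_comm := fun a b => Subtype.ext (h.comm a a.2 b b.2) }
  have hexp : ∀ x : E, x ^ p = 1 := fun x => Subtype.ext (h.pow x x.2)
  have hzX : z ∈ F.autGroup E := autInducedBy_le_autGroup h.le hz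
  obtain ⟨τ, hτ, c, c', L, hT⟩ := exists_torus hexp h.card hH (z := ⟨z, hzX⟩) (c0 := c0)
    ⟨hz1, hzc, hmove⟩ huv
  obtain ⟨⟨l, hlL⟩, hl1⟩ : ∃ x : L, x ≠ 1 := by
    have : Nontrivial L := Finite.one_lt_card_iff_nontrivial.1 (hT.card_line ▸ hp.out.one_lt)
    exact exists_ne 1
  have hl1' : l ≠ 1 := fun e => hl1 (Subtype.ext e)
  have hL : L = Subgroup.zpowers l := by
    refine (eq_of_le_of_card_ge (zpowers_le.2 hlL) ?_).symm
    rw [hT.card_line, Nat.card_zpowers, orderOf_eq_prime (hexp l) hl1']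
  have hcl : Subgroup.zpowers c ⊔ L = (axisOf S E).subgroupOf E := by
    ext x
    rw [← hT.fixed, mem_subgroupOf]
    exact (hax x).symm
  refine ⟨τ, u, v, c, c', l, hτ, c.2, c'.2, l.2, fun e => hl1' (Subtype.ext e), fun hmem => ?_, ?_,
    fun hmem => ?_, fun w hw e he => ?_, fun g hg => ?_, fun _ => ?_, fun _ => ?_, fun _ => ?_,
    huv, hprim⟩
  · obtain ⟨i, hi⟩ := mem_zpowers_iff.1 hmem
    exact hT.c_notMem (hL ▸ mem_zpowers_iff.2 ⟨i, Subtype.ext (by simpa using hi)⟩)
  · have := congrArg (Subgroup.map E.subtype) hcl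
    rw [Subgroup.map_sup, MonoidHom.map_zpowers, hL, MonoidHom.map_zpowers,
      Subgroup.map_subgroupOf_eq_of_le (axisOf_le E)] at this
    exact this.symm
  · have h1 := (hax c').1 hmem
    change ((⟨z, hzX⟩ : F.autGroup E) : MulAut E) c' = c' at h1
    rw [hT.moves] at h1
    exact hT.trans.ne_one (mul_eq_left.1 h1)
  · have hmem : normAut w hw.2 ∈ Subgroup.zpowers z :=
      hzgen ▸ mem_autInducedBy_iff.2 ⟨w, hw.1, fun y => rfl⟩
    obtain ⟨i, hi⟩ := mem_zpowers_iff.1 hmem
    have h1 : (normAut w hw.2 ⟨e, he⟩ : Ω) = e * (((⟨e, he⟩ : E)⁻¹ * z ⟨e, he⟩ : E) ^ i : E) := by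
      rw [← hi]
      exact congrArg Subtype.val (hT.trans.zpow_apply i ⟨e, he⟩)
    rw [normAut_apply] at h1
    obtain ⟨m, hm⟩ := mem_zpowers_iff.1 (hT.trans.move ⟨e, he⟩)
    change c ^ m = (⟨e, he⟩ : E)⁻¹ * z ⟨e, he⟩ at hm
    rw [← hm, ← zpow_mul, SubgroupClass.coe_zpow] at h1
    refine mem_zpowers_iff.2 ⟨m * i, ?_⟩
    rw [commutatorElement_def, h1, h.comm e he _ (E.zpow_mem c.2 _), mul_inv_cancel_right]
  · obtain ⟨i, rfl⟩ := mem_zpowers_iff.1 (hzgen ▸ hg)
    rw [← conj_zpow]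
    rw [show τ * z * τ⁻¹ = z ^ (u * u) from hT.tau_conj, ← zpow_natCast, ← zpow_natCast,
      ← zpow_mul, ← zpow_mul, mul_comm]
  · exact congrArg Subtype.val hT.tau_c
  · exact congrArg Subtype.val hT.tau_c'
  · exact congrArg Subtype.val (hT.tau_line l (hL ▸ mem_zpowers l))

end CfsgLib.Fusion.MaxClassCube
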