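import Cfsg.Agent.Lib.PGroup.Basic
import Cfsg.Agent.Lib.PGroup.PolySeq
import Cfsg.Agent.Lib.FGS.Regular
import Cfsg.Agent.Lib.Transfer.MaximalClass

/-!
# One step in a chain of successive normalizers: the group-theoretical lemmas
-/

set_option autoImplicit false
set_option linter.unusedSectionVars false

open Subgroup
open scoped commutatorElement

namespace CfsgLib.Fusion.MaxClassCube

variable {G : Type*} [Group G] [Finite G] {p : ℕ} [hp : Fact p.Prime]

/-- Between two normal subgroups of a `p`-group there is one that is central of order `p` over the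
lower one. -/
theorem exists_central_mod (hG : IsPGroup p G) {D R : Subgroup G} [D.Normal] [R.Normal]
    (h : D < R) : ∃ B : Subgroup G, B.Normal ∧ D ≤ B ∧ B ≤ R ∧ Nat.card B = p * Nat.card D ∧
      ∀ g : G, ∀ b ∈ B, ⁅g, b⁆ ∈ D := by
  set π := QuotientGroup.mk' D
  have hπ := QuotientGroup.mk'_surjective D
  have hRn : (R.map π).Normal := ‹R.Normal›.map π hπ
  obtain ⟨K, hKR, hKc, hKn, hK⟩ := CfsgLib.PGroup.exists_card_eq_le_center (hG.to_quotient D)
    (R.map π) (fun e => h.not_ge (by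
      intro r hr
      have : π r ∈ R.map π := mem_map_of_mem π hr
      rw [e, mem_bot, QuotientGroup.mk'_apply, QuotientGroup.eq_one_iff] at this
      exact this))
  refine ⟨K.comap π, hKn.comap π, ?_, ?_, ?_, fun g b hb => ?_⟩
  · intro d hd
    rw [mem_comap, QuotientGroup.mk'_apply, (QuotientGroup.eq_one_iff d).2 hd]
    exact one_mem _
  · intro b hb
    obtain ⟨r, hr, e⟩ := hKR hb
    have := R.mul_mem hr (h.le (QuotientGroup.eq.1 e))
    simpa using this
  · have hle : D ≤ K.comap π := fun d hd => by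
      rw [mem_comap, QuotientGroup.mk'_apply, (QuotientGroup.eq_one_iff d).2 hd]; exact one_mem _
    have h1 := (D.subgroupOf (K.comap π)).card_mul_index
    rw [Nat.card_congr (subgroupOfEquivOfLe hle).toEquiv] at h1
    have h2 : (D.subgroupOf (K.comap π)).index = p := by
      have e : D.subgroupOf (K.comap π) = (π.comp (K.comap π).subtype).ker := by
        ext v; simp [mem_subgroupOf, π]
      rw [e, index_ker, MonoidHom.range_comp, range_subtype, map_comap_eq_self_of_surjective hπ, hK]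
    rw [h2] at h1
    rw [← h1, mul_comm]
  · rw [← QuotientGroup.eq_one_iff, ← QuotientGroup.mk'_apply, map_commutatorElement]
    exact commutatorElement_eq_one_iff_mul_comm.2 (mem_center_iff.1 (hKc hb) _)

/-- A normal subgroup of index `p` in a normal subgroup of a `p`-group is centralised modulo it. -/
theorem comm_mem_of_card (hG : IsPGroup p G) {T R : Subgroup G} [T.Normal] [R.Normal]
    (hle : T ≤ R) (hc : Nat.card R = p * Nat.card T) (g : G) {r : G} (hr : r ∈ R) :
    ⁅g, r⁆ ∈ T := by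
  have hlt : T < R := lt_of_le_of_ne hle fun e => by
    rw [← e] at hc
    have := (Nat.card_pos (α := T))
    have := hp.out.one_lt
    nlinarith
  obtain ⟨B, -, hTB, hBR, hB, hcom⟩ := exists_central_mod hG hlt
  exact hcom g r ((eq_of_le_of_card_ge hBR (hc.trans hB.symm).le).ge hr)

/-- The data of a step. -/
structure StepHyp (p : ℕ) (R Rm D : Subgroup G) (e : G) : Prop where
  dNormal : D.Normal
  rNormal : R.Normal
  dle : D ≤ Rm
  mle : Rm ≤ R
  cardR : Nat.card R = p * Nat.card Rm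
  cardM : Nat.card Rm = p * Nat.card D
  e_mem : e ∈ Rm
  e_notMem : e ∉ D
  ne_top : R ≠ ⊤
  norm : ∀ w, (∀ x ∈ Rm, w * x * w⁻¹ ∈ Rm) → w ∈ R

/-- The conclusions of a step. -/
structure StepOut (p : ℕ) (R Rm D B : Subgroup G) (e : G) : Prop where
  bNormal : B.Normal
  dle : D ≤ B
  ble : B ≤ R
  cardB : Nat.card B = p * Nat.card D
  inf_eq : B ⊓ Rm = D
  comm_B : ∀ g : G, ∀ b ∈ B, ⁅g, b⁆ ∈ D
  comm_R : ∀ g : G, ∀ r ∈ R, ⁅g, r⁆ ∈ B
  surj : ∀ b ∈ B, ∃ w : G, ⁅w, e⁆⁻¹ * b ∈ D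
  inj : ∀ w : G, ⁅w, e⁆ ∈ D → w ∈ R

theorem StepHyp.gen_Rm (hG : IsPGroup p G) {R Rm D : Subgroup G} {e : G} (h : StepHyp p R Rm D e) :
    Rm = zpowers e ⊔ D := by
  refine (eq_of_le_of_card_ge (sup_le (zpowers_le.2 h.e_mem) h.dle) ?_).symm
  rw [h.cardM]
  exact CfsgLib.Transfer.prime_mul_card_le hG (lt_of_le_of_ne le_sup_right fun he =>
    h.e_notMem (he ▸ mem_sup_left (mem_zpowers e)))

theorem StepHyp.out (hG : IsPGroup p G) {R Rm D : Subgroup G} {e : G} (h : StepHyp p R Rm D e) :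
    R.index = p ∧ ∃ B, StepOut p R Rm D B e := by
  have := h.dNormal
  have := h.rNormal
  have hp0 := hp.out.pos
  have hDlt : D < R := lt_of_le_of_ne (h.dle.trans h.mle) fun he =>
    h.e_notMem (he ▸ h.mle h.e_mem)
  obtain ⟨B, hBn, hDB, hBR, hBc, hBcom⟩ := exists_central_mod hG hDlt
  have hRB : Nat.card R = p * Nat.card B := by rw [h.cardR, h.cardM, hBc]
  have hRcom : ∀ g : G, ∀ r ∈ R, ⁅g, r⁆ ∈ B := fun g r hr => comm_mem_of_card hG hBR hRB g hr
  have hinj : ∀ w : G, ⁅w, e⁆ ∈ D → w ∈ R := by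
    intro w hw
    refine h.norm w fun x hx => ?_
    rw [h.gen_Rm hG] at hx
    obtain ⟨_, ⟨i, rfl⟩, d, hd, rfl⟩ := mem_sup_of_normal_right.1 hx
    rw [show w * (e ^ i * d) * w⁻¹ = (w * e * w⁻¹) ^ i * (w * d * w⁻¹) by
      rw [conj_zpow]; group]
    refine mul_mem (zpow_mem ?_ i) (h.dle (h.dNormal.conj_mem d hd w))
    rw [show w * e * w⁻¹ = ⁅w, e⁆ * e by rw [commutatorElement_def]; group]
    exact mul_mem (h.dle hw) h.e_mem
  have hBne : B ≠ Rm := fun he => h.ne_top ((eq_top_iff' R).2 fun w =>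
    h.norm w fun x hx => he ▸ hBn.conj_mem x (he.symm ▸ hx) w)
  have hinf : B ⊓ Rm = D := by
    refine (eq_of_le_of_card_ge (le_inf hDB h.dle) ?_).symm
    by_contra hlt
    refine hBne (eq_of_le_of_card_ge ?_ (le_of_eq (h.cardM.trans hBc.symm)))
    have h1 := CfsgLib.Transfer.prime_mul_card_le hG
      (lt_of_le_of_ne (le_inf hDB h.dle) fun e' => hlt (e' ▸ le_rfl))
    rw [← hBc] at h1
    exact inf_eq_left.1 (eq_of_le_of_card_ge inf_le_left h1)
  set π := QuotientGroup.mk' D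
  let f : G →* G ⧸ D := MonoidHom.mk' (fun w => π ⁅w, e⁆) fun a b => by
    rw [commutatorElement_mul_left_eq_conj_mul]
    have hc : ⁅a, ⁅b, e⁆⁆ ∈ D := hBcom a _ (hRcom b e (h.mle h.e_mem))
    have hc' : π (a * ⁅b, e⁆ * a⁻¹) = π ⁅b, e⁆ := by
      rw [show a * ⁅b, e⁆ * a⁻¹ = ⁅a, ⁅b, e⁆⁆ * ⁅b, e⁆ by rw [commutatorElement_def a]; group,
        map_mul]
      rw [show π ⁅a, ⁅b, e⁆⁆ = 1 from (QuotientGroup.eq_one_iff _).2 hc, one_mul]
    rw [map_mul, hc']
    refine (commutatorElement_eq_one_iff_mul_comm.1 ?_).symm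
    rw [← map_commutatorElement]
    exact (QuotientGroup.eq_one_iff _).2 (hBcom _ _ (hRcom b e (h.mle h.e_mem)))
  have hker : f.ker ≤ R := fun w hw => hinj w ((QuotientGroup.eq_one_iff _).1 hw)
  have hrange : f.range ≤ B.map π := by
    rintro _ ⟨w, rfl⟩
    exact mem_map_of_mem π (hRcom w e (h.mle h.e_mem))
  have hBbar : Nat.card (B.map π) = p := by
    have e1 : B.map π = (π.comp B.subtype).range := by rw [MonoidHom.range_comp, range_subtype]
    have e2 : (π.comp B.subtype).ker = D.subgroupOf B := by ext v; simp [mem_subgroupOf, π]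
    rw [e1, ← index_ker, e2]
    have := (D.subgroupOf B).card_mul_index
    rw [Nat.card_congr (subgroupOfEquivOfLe hDB).toEquiv, hBc, mul_comm p] at this
    exact Nat.eq_of_mul_eq_mul_left Nat.card_pos this
  have hdvd : R.index ∣ Nat.card f.range := by rw [← index_ker]; exact index_dvd_of_le hker
  have hd2 : Nat.card f.range ∣ p := hBbar ▸ card_dvd_of_le hrange
  have hidx : R.index = p := ((Nat.dvd_prime hp.out).1 (hdvd.trans hd2)).resolve_left
    (fun e1 => h.ne_top (index_eq_one.1 e1))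
  refine ⟨hidx, B, hBn, hDB, hBR, hBc, hinf, hBcom, hRcom, fun b hb => ?_, hinj⟩
  have hfe : f.range = B.map π := eq_of_le_of_card_ge hrange (by
    rw [hBbar]
    exact Nat.le_of_dvd Nat.card_pos (hidx ▸ hdvd))
  obtain ⟨w, hw⟩ := (hfe.ge (mem_map_of_mem π hb) : π b ∈ f.range)
  exact ⟨w, QuotientGroup.eq.1 hw⟩

/-- The weight on `G / R` of an automorphism. -/
theorem StepOut.weight {R Rm D B : Subgroup G} {e : G} (hR : StepHyp p R Rm D e)
    (h : StepOut p R Rm D B e) (hpB : ∀ b ∈ B, b ^ p ∈ D) {ψ : MulAut G}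
    (hB : ∀ x ∈ B, ψ x ∈ B) {a u v : ℕ} (huv : (u : ZMod p) * v = 1)
    (hψe : ψ e = e ^ v) (hw : ∀ r ∈ R, ψ r * (r ^ a)⁻¹ ∈ Rm) (w : G) :
    ψ w * (w ^ (a * u))⁻¹ ∈ R := by
  have := hR.dNormal
  set π := QuotientGroup.mk' D with hπ
  have hcen : ∀ b ∈ B, π b ∈ center (G ⧸ D) := fun b hb => mem_center_iff.2 fun q => by
    obtain ⟨g, rfl⟩ := QuotientGroup.mk'_surjective D q
    refine commutatorElement_eq_one_iff_mul_comm.1 ?_
    rw [← map_commutatorElement]
    exact (QuotientGroup.eq_one_iff _).2 (h.comm_B g b hb)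
  have hbar : ∀ b ∈ B, π (ψ b) = π b ^ a := fun b hb => by
    have h1 : ψ b * (b ^ a)⁻¹ ∈ D := h.inf_eq ▸
      ⟨B.mul_mem (hB b hb) (B.inv_mem (B.pow_mem hb a)), hw b (h.ble hb)⟩
    rw [← map_pow, ← mul_inv_eq_one, ← map_inv, ← map_mul]
    exact (QuotientGroup.eq_one_iff _).2 h1
  have he : e ∈ R := hR.mle hR.e_mem
  have hcB : ∀ g, ⁅g, e⁆ ∈ B := fun g => h.comm_R g e he
  have hcc : ∀ g, ⁅π g, π e⁆ ∈ center (G ⧸ D) := fun g => by
    rw [← map_commutatorElement]; exact hcen _ (hcB g)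
  have hexp : ∀ g, π ⁅g, e⁆ ^ p = 1 := fun g => by
    rw [← map_pow]; exact (QuotientGroup.eq_one_iff _).2 (hpB _ (hcB g))
  have h1 : π ⁅ψ w, e⁆ ^ v = π ⁅w, e⁆ ^ a := by
    rw [← hbar _ (hcB w), map_commutatorElement ψ, hψe, map_commutatorElement π,
      map_commutatorElement π, map_pow, CfsgLib.PGroup.comm_pow_right (hcc _)]
  have h2 : π ⁅ψ w, e⁆ = π ⁅w ^ (a * u), e⁆ := by
    rw [map_commutatorElement π (w ^ (a * u)), map_pow π w, CfsgLib.PGroup.comm_pow_left (hcc w),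
      ← map_commutatorElement, pow_mul, ← h1, ← pow_mul, mul_comm v u]
    have h3 : ((u * v : ℕ) : ZMod p) = ((1 : ℕ) : ZMod p) := by
      rw [Nat.cast_mul, huv, Nat.cast_one]
    rw [ZMod.natCast_eq_natCast_iff'] at h3
    rw [pow_eq_pow_mod (u * v) (hexp _), h3, ← pow_eq_pow_mod _ (hexp _), pow_one]
  refine h.inj _ ((QuotientGroup.eq_one_iff _).1 ?_)
  show π ⁅ψ w * (w ^ (a * u))⁻¹, e⁆ = 1
  rw [map_commutatorElement, map_mul, CfsgLib.PGroup.comm_mul_left (hcc _), ← map_commutatorElement,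
    ← map_commutatorElement, h2]
  rw [map_commutatorElement, map_commutatorElement, ← CfsgLib.PGroup.comm_mul_left (hcc _),
    ← map_mul, mul_inv_cancel, map_one, commutatorElement_one_left]

/-- The possible actions of `G` on a plane centralised by a subgroup of index `p`. -/
theorem moved_cases (hG : IsPGroup p G) {A R : Subgroup G} [A.Normal] {c l : G}
    (hA : A = zpowers c ⊔ zpowers l) (hAcard : Nat.card A = p ^ 2) (hc : c ^ p = 1)
    (hl : l ^ p = 1) (hcl : Commute c l) (hRA : ∀ r ∈ R, ∀ a ∈ A, Commute r a) {ψ : MulAut G}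
    {u m : ℕ} (hψc : ψ c = c ^ u) (hψl : ψ l = l) (hu : (u : ZMod p) ≠ 1) {w : G}
    (hgen : zpowers w ⊔ R = ⊤) (hψw : ∃ r ∈ R, ψ w = r * w ^ m)
    (hmove : ∃ a ∈ A, ⁅w, a⁆ ≠ 1) :
    (u : ZMod p) = m ∨ (((m * u : ℕ) : ZMod p) = 1 ∧
      ∀ x ∈ A, x ∈ center G → x ∈ zpowers l) := by
  have hp0 := hp.out.pos
  have hcA : c ∈ A := hA ▸ mem_sup_left (mem_zpowers c)
  have hlA : l ∈ A := hA ▸ mem_sup_right (mem_zpowers l)
  have hAcomm : ∀ x ∈ A, ∀ y ∈ A, Commute x y := by
    have : IsMulCommutative A := ⟨⟨(IsPGroup.commGroupOfCardEqPrimeSq hAcard).mul_comm⟩⟩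
    exact fun x hx y hy => congrArg Subtype.val (Std.Commutative.comm
      (op := fun a b : A => a * b) ⟨x, hx⟩ ⟨y, hy⟩)
  have hcentral : ∀ x ∈ A, Commute w x → x ∈ center G := by
    intro x hx hwx
    have hle : zpowers w ⊔ R ≤ centralizer ({x} : Set G) := sup_le
      (zpowers_le.2 (mem_centralizer_singleton_iff.2 hwx.eq))
      (fun r hr => mem_centralizer_singleton_iff.2 (hRA r hr x hx).eq)
    rw [hgen] at hle
    exact mem_center_iff.2 fun g => mem_centralizer_singleton_iff.1 (hle (Subgroup.mem_top g))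
  set L := A ⊓ center G with hLdef
  have hLne : L ≠ ⊥ := CfsgLib.PGroup.inf_center_ne_bot hG A fun e => by
    rw [e, card_bot] at hAcard
    exact (Nat.one_lt_pow two_ne_zero hp.out.one_lt).ne hAcard
  have hLcard : Nat.card L = p := by
    obtain ⟨j, hj, hje⟩ := (Nat.dvd_prime_pow hp.out).1
      (hAcard ▸ card_dvd_of_le (inf_le_left : L ≤ A))
    interval_cases j
    · exact absurd (eq_bot_of_card_eq _ (hje.trans (pow_zero p))) hLne
    · rw [hje, pow_one]
    · obtain ⟨a, ha, hwa⟩ := hmove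
      have : L = A := eq_of_le_of_card_ge inf_le_left (by rw [hje, hAcard])
      rw [← this] at ha
      exact absurd (commutatorElement_eq_one_iff_mul_comm.2 (mem_center_iff.1 ha.2 w)) hwa
  have hLcomm : ∀ g, ∀ a ∈ A, ⁅g, a⁆ ∈ L := fun g a ha =>
    comm_mem_of_card hG (T := L) inf_le_left (by rw [hLcard, hAcard, pow_two]) g ha
  have hψA : ∀ x ∈ A, ψ x ∈ A := by
    intro x hx
    rw [hA] at hx
    refine (sup_le (zpowers_le.2 ?_) (zpowers_le.2 ?_) :
      zpowers c ⊔ zpowers l ≤ A.comap ψ.toMonoidHom) hx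
    · show ψ c ∈ A; rw [hψc]; exact pow_mem hcA u
    · show ψ l ∈ A; rw [hψl]; exact hlA
  obtain ⟨r, hr, hrw⟩ := hψw
  -- the commutators with `ψ w`
  have hpush : ∀ a ∈ A, ⁅ψ w, a⁆ = ⁅w, a⁆ ^ m := by
    intro a ha
    rw [hrw, CfsgLib.PGroup.comm_mul_left ((hLcomm _ a ha).2),
      commutatorElement_eq_one_iff_mul_comm.2 (hRA r hr a ha).eq, one_mul,
      CfsgLib.PGroup.comm_pow_left (hLcomm w a ha).2]
  have hmodp : ∀ {d : G}, d ^ p = 1 → d ≠ 1 → ∀ i j : ℕ, d ^ i = d ^ j → (i : ZMod p) = j := by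
    intro d hd hd1 i j hij
    rw [ZMod.natCast_eq_natCast_iff', ← orderOf_eq_prime hd hd1]
    exact pow_inj_mod.1 hij
  have hdp : ∀ g, ∀ a ∈ A, ⁅g, a⁆ ^ p = 1 := fun g a ha => by
    have h1 := congrArg Subtype.val (pow_card_eq_one' (x := (⟨_, hLcomm g a ha⟩ : L)))
    rwa [hLcard] at h1
  by_cases hcL : c ∈ L
  · left
    have hd1 : ⁅w, l⁆ ≠ 1 := fun h1 => by
      obtain ⟨a, ha, hwa⟩ := hmove
      have hl' := hcentral l hlA (commutatorElement_eq_one_iff_mul_comm.1 h1)
      have hle : A ≤ center G := hA ▸ sup_le (zpowers_le.2 hcL.2) (zpowers_le.2 hl')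
      exact hwa (commutatorElement_eq_one_iff_mul_comm.2 (mem_center_iff.1 (hle ha) w))
    have hLc : L = zpowers c := (eq_of_le_of_card_ge (zpowers_le.2 hcL) (by
      rw [hLcard, Nat.card_zpowers, orderOf_eq_prime hc fun h1 => ?_]
      rw [h1] at hA
      rw [hA, zpowers_one_eq_bot, bot_sup_eq, Nat.card_zpowers] at hAcard
      have := Nat.le_of_dvd hp0 (orderOf_dvd_of_pow_eq_one hl)
      have := hp.out.one_lt
      nlinarith)).symm
    obtain ⟨i, hi⟩ := mem_zpowers_iff.1 (hLc ▸ hLcomm w l hlA)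
    refine hmodp (hdp w l hlA) hd1 u m ?_
    rw [← hpush l hlA]
    have : ψ ⁅w, l⁆ = ⁅ψ w, l⁆ := by rw [map_commutatorElement, hψl]
    rw [← this, ← hi, map_zpow, hψc, ← zpow_natCast, ← zpow_mul, ← zpow_natCast c u, ← zpow_mul,
      mul_comm]
  · right
    have hLl : ∀ x ∈ L, x ∈ zpowers l := by
      intro x hx
      have hψx : ψ x ∈ L := ⟨hψA x hx.1, mem_center_iff.2 fun g => by
        rw [← MulAut.apply_inv_self G ψ g, ← map_mul, ← map_mul]
        exact congrArg ψ (mem_center_iff.1 hx.2 _)⟩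
      obtain ⟨_, ⟨i, rfl⟩, _, ⟨j, rfl⟩, rfl⟩ : ∃ a ∈ zpowers c, ∃ b ∈ zpowers l, a * b = x := by
        have hx1 : x ∈ zpowers c ⊔ zpowers l := hA ▸ hx.1
        have hnorm : zpowers c ≤ normalizer (zpowers l : Set G) := zpowers_le.2
          (mem_normalizer_iff.2 fun y => by
            constructor
            · rintro ⟨k, rfl⟩
              rw [(hcl.zpow_right k).eq, mul_inv_cancel_right]
              exact ⟨k, rfl⟩
            · rintro ⟨k, hk⟩
              have : y = c⁻¹ * l ^ k * c := by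
                change l ^ k = _ at hk
                rw [hk]; group
              rw [this, mul_assoc, ← (hcl.zpow_right k).eq, inv_mul_cancel_left]
              exact ⟨k, rfl⟩)
        rw [← SetLike.mem_coe, Subgroup.coe_mul_of_left_le_normalizer_right _ _ hnorm] at hx1
        exact hx1
      have hmem : c ^ ((i : ℤ) * ((u : ℤ) - 1)) ∈ L := by
        have := mul_mem hψx (inv_mem hx)
        rw [map_mul, map_zpow, map_zpow, hψc, hψl, mul_inv_rev, ← mul_assoc,
          mul_inv_cancel_right, ← zpow_natCast, ← zpow_mul] at this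
        rwa [mul_sub, mul_one, zpow_sub, mul_comm i]
      by_cases hdvd : (p : ℤ) ∣ i
      · obtain ⟨k, rfl⟩ := hdvd
        show c ^ ((p : ℤ) * k) * l ^ j ∈ zpowers l
        rw [zpow_mul, zpow_natCast, hc, one_zpow, one_mul]
        exact ⟨j, rfl⟩
      · exfalso
        have hcop : IsCoprime ((i : ℤ) * ((u : ℤ) - 1)) (p : ℤ) := by
          refine ((Nat.prime_iff_prime_int.1 hp.out).coprime_iff_not_dvd.2 fun hd => ?_).symm
          rcases (Nat.prime_iff_prime_int.1 hp.out).dvd_or_dvd hd with h1 | h1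
          · exact hdvd h1
          · refine hu (sub_eq_zero.1 ?_)
            rw [← ZMod.intCast_zmod_eq_zero_iff_dvd] at h1
            push_cast at h1
            exact h1
        obtain ⟨s, t, hst⟩ := hcop
        refine hcL ?_
        have := mul_mem (zpow_mem hmem s) (zpow_mem (one_mem L) t)
        rw [← zpow_mul, one_zpow, mul_one] at this
        have e : c ^ (((i : ℤ) * ((u : ℤ) - 1)) * s) = c := by
          conv_rhs => rw [← zpow_one c, ← hst]
          rw [zpow_add, mul_comm t, zpow_mul _ (p : ℤ), zpow_natCast, hc, one_zpow, mul_one,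
            mul_comm s]
        rwa [e] at this
    have hd1 : ⁅w, c⁆ ≠ 1 := fun h1 =>
      hcL ⟨hcA, hcentral c hcA (commutatorElement_eq_one_iff_mul_comm.1 h1)⟩
    refine ⟨?_, fun x hx hxc => hLl x ⟨hx, hxc⟩⟩
    obtain ⟨i, hi⟩ := mem_zpowers_iff.1 (hLl _ (hLcomm w c hcA))
    have h1 : ψ ⁅w, c⁆ = ⁅w, c⁆ := by rw [← hi, map_zpow, hψl]
    rw [map_commutatorElement, hψc, CfsgLib.PGroup.comm_pow_right (hLcomm _ c hcA).2,
      hpush c hcA, ← pow_mul] at h1
    simpa using hmodp (hdp w c hcA) hd1 (m * u) 1 (h1.trans (pow_one _).symm)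

/-- A `p`-group of class less than `p` generated by elements of order `p` has exponent `p`. -/
theorem exp_of_generators (hG : IsPGroup p G)
    (hcl : (⊤ : Subgroup G).lowerCentralSeries (p - 1) = ⊥) {T : Set G} (hT : closure T = ⊤)
    (h : ∀ s ∈ T, s ^ p = 1) (g : G) : g ^ p = 1 := by
  have hreg := CfsgLib.PGroup.PolySeq.isRegular_of_class_lt hG hcl
  have hg : g ∈ closure T := hT ▸ Subgroup.mem_top g
  induction hg using closure_induction with
  | mem x hx => exact h x hx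
  | one => exact one_pow p
  | mul x y _ _ hx hy =>
    simpa using CfsgLib.FGS.regular_pow_mul hreg (k := 1) (by simpa using hx) (by simpa using hy)
  | inv x _ hx => rw [inv_pow, hx, inv_one]

/-- A central extension of a group of order `p ^ (p - 1)` has class less than `p`. -/
theorem class_lt_of_central (hp3 : 3 ≤ p) {A : Subgroup G} (hA : A ≤ center G)
    (hc : Nat.card G = p ^ (p - 1) * Nat.card A) :
    (⊤ : Subgroup G).lowerCentralSeries (p - 1) = ⊥ := by
  have hAn : A.Normal := ⟨fun a ha g => by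
    rwa [mem_center_iff.1 (hA ha) g, mul_inv_cancel_right]⟩
  have hQ : Nat.card (G ⧸ A) = p ^ (p - 1) := by
    refine Nat.eq_of_mul_eq_mul_right (Nat.card_pos (α := A)) ?_
    rw [← Subgroup.card_eq_card_quotient_mul_card_subgroup, hc]
  have h0 := CfsgLib.Transfer.lowerCentralSeries_eq_bot hQ (by omega)
  rw [← map_top_of_surjective _ (QuotientGroup.mk'_surjective A), ← map_lowerCentralSeries,
    eq_bot_iff, map_le_iff_le_comap, MonoidHom.comap_bot, QuotientGroup.ker_mk'] at h0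
  rw [show p - 1 = (p - 1 - 1) + 1 by omega, Subgroup.lowerCentralSeries_succ, eq_bot_iff,
    commutator_le]
  exact fun a ha g _ => mem_bot.2
    (commutatorElement_eq_one_iff_mul_comm.2 (mem_center_iff.1 (hA (h0 ha)) g).symm)

/-- Automorphisms trivial on `P / B`, on `B / D` and on `A` modulo `M` form a `p`-group when
`D ≤ M ⊔ A` and `M` consists of non-generators. -/
theorem isPGroup_of_trivial_sections (hG : IsPGroup p G) (K : Subgroup (MulAut G))
    {A B D M : Subgroup G} [B.Normal] [D.Normal] [M.Normal] (hD : D ≤ M ⊔ A)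
    (hM : M ≤ frattini G) (hBi : ∀ α ∈ K, ∀ x ∈ B, α x ∈ B) (hDi : ∀ α ∈ K, ∀ x ∈ D, α x ∈ D)
    (hMi : ∀ α ∈ K, ∀ x ∈ M, α x ∈ M) (h1 : ∀ α ∈ K, ∀ x, x⁻¹ * α x ∈ B)
    (h2 : ∀ α ∈ K, ∀ x ∈ B, x⁻¹ * α x ∈ D) (h3 : ∀ α ∈ K, ∀ x ∈ A, x⁻¹ * α x ∈ M) :
    IsPGroup p K := by
  refine IsPGroup.of_card (n := (Nat.card K).primeFactorsList.length)
    (Nat.eq_prime_pow_of_unique_prime_dvd Nat.card_pos.ne' fun {q} hq hdvd => ?_)
  by_contra hqp
  have := Fact.mk hq
  obtain ⟨⟨α, hαK⟩, hα⟩ := exists_prime_orderOf_dvd_card' q hdvd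
  rw [Subgroup.orderOf_mk] at hα
  set FS : Subgroup G := MonoidHom.eqLocus α.toMonoidHom (MonoidHom.id G)
  have hfix : ∀ {N : Subgroup G}, (∀ x ∈ N, α x ∈ N) → ∀ x, x⁻¹ * α x ∈ N → x ∈ FS ⊔ N := by
    intro N hN x hx
    have hz : ∀ β ∈ zpowers α, ∀ y ∈ {y : G | x⁻¹ * y ∈ N}, β y ∈ {y : G | x⁻¹ * y ∈ N} := by
      intro β hβ y hy
      obtain ⟨i, rfl⟩ : ∃ i : ℕ, α ^ i = β := by
        rwa [← mem_powers_iff_mem_zpowers] at hβ
      clear hβ
      induction i generalizing y with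
      | zero => simpa using hy
      | succ i ih =>
        rw [pow_succ, MulAut.mul_apply]
        refine ih _ ?_
        have := N.mul_mem hx (hN _ hy)
        simpa [mul_assoc, map_mul, map_inv] using this
    let : MulAction (zpowers α) {y : G | x⁻¹ * y ∈ N} :=
      { smul := fun β y => ⟨(β : MulAut G) y, hz β β.2 y y.2⟩
        one_smul := fun y => Subtype.ext rfl
        mul_smul := fun β γ y => Subtype.ext rfl }
    have hQ : IsPGroup q (zpowers α) :=
      IsPGroup.of_card (n := 1) (by rw [Nat.card_zpowers, hα, pow_one])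
    have hc : Nat.card {y : G | x⁻¹ * y ∈ N} = Nat.card N := Nat.card_congr
      { toFun := fun y => ⟨x⁻¹ * y, y.2⟩
        invFun := fun n => ⟨x * n, by simp⟩
        left_inv := fun y => Subtype.ext (by simp)
        right_inv := fun n => Subtype.ext (by simp) }
    obtain ⟨y, hy⟩ := hQ.nonempty_fixed_point_of_prime_not_dvd_card _ (by
      rw [hc]
      obtain ⟨j, hj⟩ := IsPGroup.iff_card.1 (hG.to_subgroup N)
      rw [hj]
      exact fun hd => hqp ((Nat.prime_dvd_prime_iff_eq hq hp.out).1 (hq.dvd_of_dvd_pow hd)))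
    have hyf : (y : G) ∈ FS := congrArg Subtype.val (hy ⟨α, mem_zpowers α⟩)
    have := mul_mem (mem_sup_left (T := N) hyf) (mem_sup_right (inv_mem y.2))
    simpa [mul_assoc] using this
  have hA : A ≤ FS ⊔ M := fun x hx => hfix (hMi α hαK) x (h3 α hαK x hx)
  have hB : B ≤ FS ⊔ D := fun x hx => hfix (hDi α hαK) x (h2 α hαK x hx)
  have htop : ∀ x, x ∈ FS ⊔ M := fun x =>
    (sup_le le_sup_left (hB.trans (sup_le le_sup_left (hD.trans (sup_le le_sup_right hA)))) :
      FS ⊔ B ≤ FS ⊔ M) (hfix (hBi α hαK) x (h1 α hαK x))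
  have hFS : FS = ⊤ := CfsgLib.PGroup.eq_top_of_sup_frattini
    (top_le_iff.1 fun x _ => sup_le_sup_left hM FS (htop x))
  have hα1 : α = 1 := MulEquiv.ext fun x => (hFS.ge (Subgroup.mem_top x) : x ∈ FS)
  rw [hα1, orderOf_one] at hα
  exact hq.ne_one hα.symm

end CfsgLib.Fusion.MaxClassCube
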