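import Cfsg.Agent.Lib.Fusion.MaxClassCube.Cand
import Cfsg.Agent.Lib.Fusion.MaxClassCube.Step

/-!
# The chain of successive normalizers of a candidate
-/

set_option autoImplicit false
set_option linter.unusedSectionVars false

open Cfsg Cfsg.FusionSystem
open Subgroup
open scoped commutatorElement

namespace CfsgLib.Fusion.MaxClassCube

/-- Commutators and `p`-th powers. -/
def phiSub {G : Type*} [Group G] (p : ℕ) (R : Subgroup G) : Subgroup G :=
  ⁅R, R⁆ ⊔ powerClosure p 1 R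

section phi

variable {G : Type*} [Group G] {p : ℕ}

theorem phiSub_le (R : Subgroup G) : phiSub p R ≤ R :=
  sup_le R.commutator_le_self ((closure_le _).2 fun _ ⟨_, hx, e⟩ => e ▸ R.pow_mem hx _)

theorem comm_mem_phiSub {R : Subgroup G} {x y : G} (hx : x ∈ R) (hy : y ∈ R) :
    ⁅x, y⁆ ∈ phiSub p R :=
  mem_sup_left (commutator_mem_commutator hx hy)

theorem pow_mem_phiSub {R : Subgroup G} {x : G} (hx : x ∈ R) : x ^ p ∈ phiSub p R :=
  mem_sup_right (subset_closure ⟨x, hx, by rw [pow_one]⟩)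

theorem phiSub_map {H : Type*} [Group H] (f : G →* H) (R : Subgroup G) :
    (phiSub p R).map f = phiSub p (R.map f) := by
  rw [phiSub, phiSub, Subgroup.map_sup, map_commutator, CfsgLib.Transfer.powerClosure_map]

theorem phiSub_subgroupOf {R P : Subgroup G} (h : R ≤ P) :
    (phiSub p R).subgroupOf P = phiSub p (R.subgroupOf P) := by
  refine map_injective P.subtype_injective ?_
  rw [phiSub_map, map_subgroupOf_eq_of_le h, map_subgroupOf_eq_of_le ((phiSub_le R).trans h)]

theorem phiSub_top_le_frattini [Finite G] [Fact p.Prime] (hG : IsPGroup p G) :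
    phiSub p (⊤ : Subgroup G) ≤ frattini G := by
  refine sup_le ?_ ((closure_le _).2 fun _ ⟨x, _, e⟩ => ?_)
  · exact (le_of_eq (_root_.commutator_def G).symm).trans
      (CfsgLib.PGroup.commutator_le_frattini hG)
  · subst e
    rw [pow_one]
    exact CfsgLib.PGroup.pow_mem_frattini hG x

theorem card_le_of_gen [Finite G] [hp : Fact p.Prime] {T K : Subgroup G} [T.Normal] {w : G}
    (hTK : T ≤ K) (hK : K ≤ zpowers w ⊔ T) (hw : w ^ p ∈ T) : Nat.card K ≤ p * Nat.card T := by
  have h1 := (T.subgroupOf K).card_mul_index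
  rw [Nat.card_congr (subgroupOfEquivOfLe hTK).toEquiv] at h1
  rw [← h1, mul_comm]
  refine Nat.mul_le_mul_right _ ?_
  set π := QuotientGroup.mk' T
  have e : T.subgroupOf K = (π.comp K.subtype).ker := by ext v; simp [mem_subgroupOf, π]
  rw [e, index_ker, MonoidHom.range_comp, range_subtype]
  have hle : K.map π ≤ zpowers (π w) := by
    refine (map_mono hK).trans ?_
    rw [Subgroup.map_sup, MonoidHom.map_zpowers]
    refine sup_le le_rfl ?_
    rw [show T.map π = ⊥ from (Subgroup.map_eq_bot_iff _).2 (QuotientGroup.ker_mk' T).ge]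
    exact bot_le
  refine (card_le_of_le hle).trans ?_
  rw [Nat.card_zpowers]
  exact Nat.le_of_dvd hp.out.pos (orderOf_dvd_of_pow_eq_one
    (by rw [← map_pow]; exact (QuotientGroup.eq_one_iff _).2 hw))

end phi

variable {Ω : Type*} [Group Ω] {S : Subgroup Ω} [Finite S] {p : ℕ} [hp : Fact p.Prime]
  {F : FusionSystem S}

theorem img_phiSub {P R : Subgroup Ω} (φ : P →* Ω) (h : R ≤ P) :
    img φ (phiSub p R) = phiSub p (img φ R) := by
  rw [img, phiSub_subgroupOf h, phiSub_map]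
  rfl

theorem conj_mem_phiSub {R : Subgroup Ω} {g x : Ω} (hg : g ∈ Subgroup.normalizer (R : Set Ω))
    (hx : x ∈ phiSub p R) : g * x * g⁻¹ ∈ phiSub p R := by
  have h := conjSub_eq_iff_mem_normalizer.2 hg
  rw [conjSub] at h
  rw [← h, ← phiSub_map]
  exact ⟨x, hx, rfl⟩

/-- The successive normalizers in `S`. -/
def RS (S E : Subgroup Ω) : ℕ → Subgroup Ω
  | 0 => E
  | k + 1 => normalizerIn S (RS S E k)

theorem RS_le {E : Subgroup Ω} (hE : E ≤ S) : ∀ i, RS S E i ≤ S
  | 0 => hE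
  | _ + 1 => normalizerIn_le _

theorem RS_mono {E : Subgroup Ω} (hE : E ≤ S) {i k : ℕ} (h : i ≤ k) : RS S E i ≤ RS S E k := by
  induction h with
  | refl => rfl
  | step _ ih => exact ih.trans (le_normalizerIn (RS_le hE _))

/-- `D`: commutators, powers and the axis. -/
def dSub (p : ℕ) (S E R : Subgroup Ω) : Subgroup Ω := phiSub p R ⊔ axisOf S E

/-- What is known about the `j + 1`-st normalizer. -/
structure Geo (p : ℕ) (S E : Subgroup Ω) (j : ℕ) : Prop where
  card : ∀ i ≤ j + 1, Nat.card (RS S E i) = p ^ (3 + i)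
  central : ∀ r ∈ RS S E (j + 1), ∀ a ∈ axisOf S E, r * a = a * r
  uniq : ∀ T, E ≤ T → T ≤ RS S E (j + 1) → ¬ T ≤ RS S E j → RS S E (j + 1) ≤ T

theorem RS_img {E P : Subgroup Ω} (hE : E ≤ S) {φ : P →* Ω} (hφ : φ ∈ F.Hom P) {m : ℕ}
    (hP : RS S E m ≤ P) (hc : ∀ i ≤ m, Nat.card (RS S E i) = p ^ (3 + i))
    (hc' : ∀ i ≤ m, Nat.card (RS S (img φ E) i) = p ^ (3 + i)) :
    ∀ i ≤ m, img φ (RS S E i) = RS S (img φ E) i := by
  intro i
  induction i with
  | zero => exact fun _ => rfl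
  | succ i ih =>
    intro hi
    have hiP : RS S E (i + 1) ≤ P := (RS_mono hE hi).trans hP
    have hfin : Finite (RS S (img φ E) (i + 1)) :=
      finite_of_le (normalizerIn_le (S := S) _)
    refine eq_of_le_of_card_ge ?_ ?_
    · intro y hy
      obtain ⟨x, hx, rfl⟩ := mem_img.1 hy
      refine ⟨apply_mem_S F hφ x, ?_⟩
      rw [← ih (by omega)]
      have : Finite (img φ (RS S E i)) := finite_of_le (by
        intro y hy
        obtain ⟨x, -, rfl⟩ := mem_img.1 hy
        exact apply_mem_S F hφ x)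
      refine mem_normalizer_of_forall fun y hy => ?_
      obtain ⟨z, hz, rfl⟩ := mem_img.1 hy
      rw [← map_inv, ← map_mul, ← map_mul]
      exact apply_mem_img φ (conj_mem_of_mem_normalizer hx.2 hz)
    · rw [card_img (F.injective_of_mem hφ) hiP, hc _ hi, hc' _ hi]

theorem Cand.mem_axis_iff {E : Subgroup Ω} (h : Cand F p E) {j : ℕ} (hg : Geo p S E j) {a : Ω} :
    a ∈ axisOf S E ↔ a ∈ RS S E (j + 1) ∧ ∀ r ∈ RS S E (j + 1), r * a = a * r := by
  constructor
  · exact fun ha => ⟨RS_mono h.le (Nat.zero_le _) (axisOf_le E ha), fun r hr => hg.central r hr a ha⟩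
  · rintro ⟨haR, hac⟩
    refine mem_axisOf.2 ⟨h.centralizer_eq.le ⟨RS_le h.le _ haR, fun y hy =>
      hac y (RS_mono h.le (Nat.zero_le _) hy)⟩, fun w hw => hac w ?_⟩
    exact RS_mono h.le (show 1 ≤ j + 1 by omega) hw

/-- Hypotheses on `S`. -/
structure Setup (F : FusionSystem S) (p : ℕ) : Prop where
  pgroup : IsPGroup p S
  sat : F.IsSaturated p
  five : p ^ 5 ≤ Nat.card S
  center : Nat.card (S ⊓ Subgroup.centralizer (S : Set Ω) : Subgroup Ω) ≤ p

theorem Cand.axis_card (hS : Setup F p) {E : Subgroup Ω} (h : Cand F p E) :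
    Nat.card (axisOf S E) = p ^ 2 := by
  obtain ⟨-, -, -, -, -, -, -, -, -, hc⟩ := h.exists_trans hS.pgroup hS.five
  exact hc

theorem Cand.card_RS_one (hS : Setup F p) {E : Subgroup Ω} (h : Cand F p E) :
    Nat.card (RS S E 1) = p ^ 4 := by
  refine (h.card_normalizerIn hS.pgroup (lt_of_le_of_ne h.le fun e => ?_)).1
  have h5 := hS.five
  rw [← e, h.card] at h5
  have := (Nat.pow_le_pow_iff_right hp.out.one_lt).1 h5
  omega

theorem Cand.exists_notMem_axis (hS : Setup F p) {E : Subgroup Ω} (h : Cand F p E) :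
    ∃ e ∈ E, e ∉ axisOf S E := by
  refine SetLike.not_le_iff_exists.1 fun (hle : E ≤ axisOf S E) => ?_
  have := finite_of_le ((axisOf_le (S := S) E).trans h.le)
  have h1 := card_le_of_le hle
  rw [h.card, h.axis_card hS] at h1
  have := (Nat.pow_le_pow_iff_right hp.out.one_lt).1 h1
  omega

theorem Cand.le_gen (hS : Setup F p) {E : Subgroup Ω} (h : Cand F p E) {e : Ω} (he : e ∈ E)
    (he' : e ∉ axisOf S E) : E ≤ Subgroup.zpowers e ⊔ axisOf S E := by
  have := finite_of_le h.le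
  refine (eq_of_le_of_card_ge (sup_le (zpowers_le.2 he) (axisOf_le E)) ?_).ge
  have hE : IsPGroup p E := hS.pgroup.to_le h.le
  have h1 := CfsgLib.Transfer.prime_mul_card_le hE
    (H := (axisOf S E).subgroupOf E) (K := (Subgroup.zpowers e ⊔ axisOf S E).subgroupOf E)
    (lt_of_le_of_ne (fun x hx => mem_sup_right (S := Subgroup.zpowers e) hx) fun heq => he' (by
      have : (⟨e, he⟩ : E) ∈ (Subgroup.zpowers e ⊔ axisOf S E).subgroupOf E :=
        mem_sup_left (T := axisOf S E) (mem_zpowers e)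
      rwa [← heq] at this))
  rw [Nat.card_congr (subgroupOfEquivOfLe (axisOf_le E)).toEquiv, h.axis_card hS,
    Nat.card_congr (subgroupOfEquivOfLe (sup_le (zpowers_le.2 he) (axisOf_le E))).toEquiv,
    ← pow_succ'] at h1
  rw [h.card]; exact h1

theorem Cand.RS_ne (hS : Setup F p) {E : Subgroup Ω} (h : Cand F p E) {j : ℕ}
    (hg : Geo p S E j) : RS S E (j + 1) ≠ S := by
  intro e
  have hle : axisOf S E ≤ S ⊓ Subgroup.centralizer (S : Set Ω) := fun a ha =>
    ⟨h.le (axisOf_le E ha), fun s hs => hg.central s (e.symm ▸ hs) a ha⟩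
  have := finite_of_le (inf_le_left : S ⊓ Subgroup.centralizer (S : Set Ω) ≤ S)
  have h1 := (card_le_of_le hle).trans hS.center
  rw [h.axis_card hS, pow_two] at h1
  have := hp.out.one_lt
  nlinarith

theorem normal_subgroupOf_of_conj {R H : Subgroup Ω}
    (h : ∀ g ∈ H, ∀ x ∈ R, g * x * g⁻¹ ∈ R) : (R.subgroupOf H).Normal :=
  ⟨fun x hx g => h g g.2 x hx⟩

theorem card_subgroupOf {R H : Subgroup Ω} (h : R ≤ H) : Nat.card (R.subgroupOf H) = Nat.card R :=
  Nat.card_congr (subgroupOfEquivOfLe h).toEquiv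

/-- The facts about one step of the chain. -/
structure StepData (p : ℕ) (S E : Subgroup Ω) (j : ℕ) (e : Ω) : Prop where
  mem : e ∈ RS S E (j + 2)
  hyp : StepHyp p ((RS S E (j + 1)).subgroupOf (RS S E (j + 2)))
    ((RS S E j).subgroupOf (RS S E (j + 2)))
    ((dSub p S E (RS S E (j + 1))).subgroupOf (RS S E (j + 2))) ⟨e, mem⟩
  card : Nat.card (RS S E (j + 2)) = p ^ (3 + (j + 2))
  gen : RS S E j = E ⊔ dSub p S E (RS S E (j + 1))

theorem Cand.stepData (hS : Setup F p) {E : Subgroup Ω} (h : Cand F p E) {j : ℕ}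
    (hg : Geo p S E j) {e : Ω} (he : e ∈ E) (he' : e ∉ axisOf S E) : StepData p S E j e := by
  have hp0 := hp.out.pos
  set R := RS S E (j + 1) with hR
  set Rm := RS S E j with hRm
  set R' := RS S E (j + 2) with hR'
  set D := dSub p S E R with hD
  have hRS : R ≤ S := RS_le h.le _
  have hR'S : R' ≤ S := RS_le h.le _
  have := finite_of_le hR'S
  have := finite_of_le hRS
  have := finite_of_le (RS_le (S := S) h.le j)
  have hmR : Rm ≤ R := RS_mono h.le (Nat.le_succ j)
  have hRR' : R ≤ R' := RS_mono h.le (Nat.le_succ _)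
  have hEm : E ≤ Rm := RS_mono h.le (Nat.zero_le j)
  have hR'n : ∀ g ∈ R', ∀ x ∈ R, g * x * g⁻¹ ∈ R := fun g hg' x hx =>
    conj_mem_of_mem_normalizer hg'.2 hx
  have hRn : ∀ g ∈ R, ∀ x ∈ Rm, g * x * g⁻¹ ∈ Rm := fun g hg' x hx =>
    conj_mem_of_mem_normalizer hg'.2 hx
  have hax : ∀ g ∈ R', ∀ a ∈ axisOf S E, g * a * g⁻¹ ∈ axisOf S E := by
    intro g hg' a ha
    rw [h.mem_axis_iff hg] at ha ⊢
    refine ⟨hR'n g hg' a ha.1, fun r hr => ?_⟩
    have h1 := ha.2 _ (show g⁻¹ * r * g ∈ R by simpa using hR'n g⁻¹ (inv_mem hg') r hr)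
    have h2 := congrArg (fun t => g * t * g⁻¹) h1
    simpa [mul_assoc] using h2
  have hDR : D ≤ R := sup_le (phiSub_le R) ((axisOf_le E).trans (hEm.trans hmR))
  have hDn : ∀ g ∈ R', ∀ x ∈ D, g * x * g⁻¹ ∈ D := by
    intro g hg' x hx
    have hle : D ≤ D.comap (MulAut.conj g).toMonoidHom := sup_le
      (fun y hy => mem_sup_left (T := axisOf S E) (conj_mem_phiSub hg'.2 hy))
      (fun y hy => mem_sup_right (S := phiSub p R) (hax g hg' y hy))
    exact hle hx
  have hcR : Nat.card R = p * Nat.card Rm := by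
    rw [hg.card (j + 1) le_rfl, hg.card j (Nat.le_succ _), ← pow_succ']
    rfl
  -- inside `R`
  have hpR : IsPGroup p R := hS.pgroup.to_le hRS
  have hmn : (Rm.subgroupOf R).Normal := normal_subgroupOf_of_conj hRn
  have hphi : phiSub p R ≤ Rm := by
    refine sup_le (commutator_le.2 fun x hx y hy => ?_) ((closure_le _).2 fun _ ⟨x, hx, e'⟩ => ?_)
    · have := comm_mem_of_card hpR (T := Rm.subgroupOf R) (R := ⊤) le_top
        (by rw [card_top, card_subgroupOf hmR, hcR]) (⟨x, hx⟩ : R) (r := ⟨y, hy⟩) (Subgroup.mem_top _)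
      exact this
    · subst e'
      have hidx : (Rm.subgroupOf R).index = p := by
        have := (Rm.subgroupOf R).card_mul_index
        rw [card_subgroupOf hmR, hcR, mul_comm p] at this
        exact Nat.eq_of_mul_eq_mul_left Nat.card_pos this
      have := (Rm.subgroupOf R).pow_index_mem (⟨x, hx⟩ : R)
      rw [hidx] at this
      rw [pow_one]
      exact this
  have hDm : D ≤ Rm := sup_le hphi ((axisOf_le E).trans hEm)
  obtain ⟨w, hw, hwm⟩ : ∃ w ∈ R, w ∉ Rm := SetLike.not_le_iff_exists.1 fun hle => by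
    have := card_le_of_le hle
    rw [hcR] at this
    have := (Nat.card_pos (α := Rm))
    have := hp.out.one_lt
    nlinarith
  have hRw : R ≤ E ⊔ Subgroup.zpowers w := hg.uniq _ le_sup_left
    (sup_le (hEm.trans hmR) (zpowers_le.2 hw)) fun hle => hwm (hle (mem_sup_right (mem_zpowers w)))
  have hT : Rm = E ⊔ D := by
    refine (eq_of_le_of_card_ge (sup_le hEm hDm) ?_).symm
    set T1 := (E ⊔ D).subgroupOf R with hT1
    have hT1R : E ⊔ D ≤ R := sup_le (hEm.trans hmR) hDR
    have hT1n : T1.Normal := normal_subgroupOf_of_conj fun g hg' x hx => by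
      rw [show g * x * g⁻¹ = ⁅g, x⁆ * x by rw [commutatorElement_def]; group]
      exact mul_mem (mem_sup_right (mem_sup_left (comm_mem_phiSub hg' (hT1R hx)))) hx
    have h1 := card_le_of_gen (p := p) (T := T1) (K := (⊤ : Subgroup R)) (w := ⟨w, hw⟩) le_top
      (by
        intro x _
        have hle : E ⊔ Subgroup.zpowers w ≤ (Subgroup.zpowers (⟨w, hw⟩ : R) ⊔ T1).map R.subtype := by
          rw [Subgroup.map_sup, MonoidHom.map_zpowers, hT1, map_subgroupOf_eq_of_le hT1R]
          exact sup_le (le_sup_left.trans le_sup_right) le_sup_left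
        obtain ⟨y, hy, e'⟩ := hle (hRw x.2)
        rwa [show x = y from (Subtype.ext e').symm])
      (mem_sup_right (S := E) (mem_sup_left (T := axisOf S E) (pow_mem_phiSub hw)))
    rw [card_top, hT1, card_subgroupOf hT1R, hcR] at h1
    exact Nat.le_of_mul_le_mul_left h1 hp0
  have heD : e ∉ D := by
    intro hmem
    have hED : E ≤ D := (h.le_gen hS he he').trans
      (sup_le (zpowers_le.2 hmem) le_sup_right)
    set A1 := (axisOf S E).subgroupOf R
    have hsup : Subgroup.zpowers (⟨w, hw⟩ : R) ⊔ A1 ⊔ frattini R = ⊤ := by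
      refine top_le_iff.1 fun x _ => ?_
      have hle : E ⊔ Subgroup.zpowers w ≤
          (Subgroup.zpowers (⟨w, hw⟩ : R) ⊔ A1 ⊔ frattini R).map R.subtype := by
        rw [Subgroup.map_sup, Subgroup.map_sup, MonoidHom.map_zpowers]
        refine sup_le (hED.trans (sup_le ?_ ?_)) (le_sup_left.trans le_sup_left)
        · refine le_trans ?_ le_sup_right
          intro y hy
          exact ⟨⟨y, phiSub_le R hy⟩, phiSub_top_le_frattini hpR (by
            rw [← Subgroup.subgroupOf_self, ← phiSub_subgroupOf le_rfl]; exact hy), rfl⟩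
        · refine le_trans ?_ (le_sup_right.trans le_sup_left)
          rw [map_subgroupOf_eq_of_le ((axisOf_le E).trans (hEm.trans hmR))]
      obtain ⟨y, hy, e'⟩ := hle (hRw x.2)
      rwa [show x = y from (Subtype.ext e').symm]
    have htop := CfsgLib.PGroup.eq_top_of_sup_frattini hsup
    have hwc : (⊤ : Subgroup R) ≤ Subgroup.centralizer ({⟨w, hw⟩} : Set R) := by
      rw [← htop]
      refine sup_le (zpowers_le.2 (mem_centralizer_singleton_iff.2 rfl)) fun a ha => ?_
      exact mem_centralizer_singleton_iff.2 (Subtype.ext (hg.central w hw _ ha).symm)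
    refine hwm (hEm (h.centralizer_eq.le ⟨hRS hw, fun y hy => ?_⟩))
    have := mem_centralizer_singleton_iff.1
      (hwc (Subgroup.mem_top (⟨y, hmR (hEm hy)⟩ : R)))
    exact congrArg Subtype.val this
  have hpR' : IsPGroup p R' := hS.pgroup.to_le hR'S
  have hDn' : (D.subgroupOf R').Normal := normal_subgroupOf_of_conj hDn
  have hcM : Nat.card Rm = p * Nat.card D := by
    refine le_antisymm ?_ ?_
    · rw [← card_subgroupOf (hmR.trans hRR'), ← card_subgroupOf (hDR.trans hRR')]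
      refine card_le_of_gen (w := ⟨e, hRR' (hmR (hEm he))⟩) (fun x hx => hDm hx) (fun x hx => ?_) ?_
      · have hle : E ⊔ D ≤ (Subgroup.zpowers (⟨e, hRR' (hmR (hEm he))⟩ : R') ⊔
            D.subgroupOf R').map R'.subtype := by
          rw [Subgroup.map_sup, MonoidHom.map_zpowers, map_subgroupOf_eq_of_le (hDR.trans hRR')]
          exact sup_le ((h.le_gen hS he he').trans
            (sup_le le_sup_left ((le_sup_right (a := phiSub p R)).trans le_sup_right))) le_sup_right
        obtain ⟨y, hy, e'⟩ := hle (hT ▸ hx)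
        rwa [show x = y from (Subtype.ext e').symm]
      · rw [mem_subgroupOf]
        show e ^ p ∈ D
        rw [h.pow e he]; exact one_mem _
    · rw [← card_subgroupOf (hmR.trans hRR'), ← card_subgroupOf (hDR.trans hRR')]
      refine CfsgLib.Transfer.prime_mul_card_le hpR' (lt_of_le_of_ne (fun x hx => hDm hx) fun heq => ?_)
      have : (⟨e, hRR' (hmR (hEm he))⟩ : R') ∈ Rm.subgroupOf R' := hEm he
      rw [← heq] at this
      exact heD this
  have hne : R < R' := lt_normalizerIn hS.pgroup (lt_of_le_of_ne hRS (h.RS_ne hS hg))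
  have mem : e ∈ R' := hRR' (hmR (hEm he))
  have hyp : StepHyp p (R.subgroupOf R') (Rm.subgroupOf R') (D.subgroupOf R') ⟨e, mem⟩ := by
    refine ⟨hDn', normal_subgroupOf_of_conj hR'n, fun x hx => hDm hx, fun x hx => hmR hx, ?_, ?_,
      hEm he, heD, ?_, fun x hx => ?_⟩
    · rw [card_subgroupOf hRR', card_subgroupOf (hmR.trans hRR'), hcR]
    · rw [card_subgroupOf (hmR.trans hRR'), card_subgroupOf (hDR.trans hRR'), hcM]
    · rw [Ne, subgroupOf_eq_top]; exact hne.not_ge
    · exact ⟨hR'S x.2, mem_normalizer_of_forall fun y hy =>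
        hx ⟨y, hRR' (hmR hy)⟩ hy⟩
  refine ⟨mem, hyp, ?_, hT⟩
  obtain ⟨hidx, -⟩ := hyp.out hpR'
  rw [← (R.subgroupOf R').card_mul_index, hidx, card_subgroupOf hRR', hg.card _ le_rfl, ← pow_succ]
  rfl

theorem Cand.card_normalizer_conj (hS : Setup F p) {j : ℕ}
    (hgeo : ∀ E, Cand F p E → Geo p S E j) {E : Subgroup Ω} (h : Cand F p E) :
    F.IsFullyNormalized (RS S E (j + 1)) := by
  refine ⟨RS_le h.le _, fun Q hQ => ?_⟩
  obtain ⟨f, hf⟩ := isConj_iff.1 hQ
  obtain ⟨fE, hfE, -⟩ := hf.exists_res (R := E) (RS_mono h.le (Nat.zero_le _))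
  set χ := Q.subtype.comp f.toMonoidHom with hχ
  have h' := h.of_iso hfE
  have hQ' : RS S (img χ E) (j + 1) = Q := by
    rw [← RS_img h.le hf.mem le_rfl (hgeo E h).card (hgeo _ h').card (j + 1) le_rfl, img_self,
      range_subtype_comp]
  obtain ⟨e, he, he'⟩ := h.exists_notMem_axis hS
  obtain ⟨e1, he1, he1'⟩ := h'.exists_notMem_axis hS
  have hc1 := (h.stepData hS (hgeo E h) he he').card
  have hc2 := (h'.stepData hS (hgeo _ h') he1 he1').card
  rw [show RS S (img χ E) (j + 2) = normalizerIn S (RS S (img χ E) (j + 1)) from rfl, hQ'] at hc2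
  rw [hc2, show normalizerIn S (RS S E (j + 1)) = RS S E (j + 2) from rfl, hc1]

theorem Cand.map_dSub {E : Subgroup Ω} (h : Cand F p E) {j : ℕ}
    (hg : Geo p S E j) : ∀ {α : MulAut (RS S E (j + 1))} (x : RS S E (j + 1)),
      (x : Ω) ∈ dSub p S E (RS S E (j + 1)) →
      (α x : Ω) ∈ dSub p S E (RS S E (j + 1)) := by
  set R := RS S E (j + 1) with hR
  have hAR : axisOf S E ≤ R := (axisOf_le E).trans (RS_mono h.le (Nat.zero_le _))
  intro α x hx
  have hle : (dSub p S E R).subgroupOf R ≤ ((dSub p S E R).subgroupOf R).comap α.toMonoidHom := by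
    rw [dSub, Subgroup.subgroupOf_sup (phiSub_le R) hAR]
    refine sup_le (fun y hy => mem_sup_left ?_) (fun y hy => mem_sup_right ?_)
    · rw [phiSub_subgroupOf le_rfl, Subgroup.subgroupOf_self] at hy ⊢
      have : (phiSub p (⊤ : Subgroup R)).map α.toMonoidHom = phiSub p (⊤ : Subgroup R) := by
        rw [phiSub_map, map_top_of_surjective _ α.surjective]
      exact this.le (mem_map_of_mem _ hy)
    · rw [mem_subgroupOf, h.mem_axis_iff hg] at hy ⊢
      refine ⟨(α y).2, fun r hr => ?_⟩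
      have h1 := congrArg α (Subtype.ext (hy.2 _ (α.symm ⟨r, hr⟩).2) :
        α.symm ⟨r, hr⟩ * y = y * α.symm ⟨r, hr⟩)
      rw [map_mul, map_mul, MulEquiv.apply_symm_apply] at h1
      exact congrArg Subtype.val h1
  exact hle hx

/-- Automorphisms of `R` fix the second hyperplane `B`. -/
theorem Cand.map_B (hS : Setup F p) {j : ℕ} (hgeo : ∀ E, Cand F p E → Geo p S E j)
    {E : Subgroup Ω} (h : Cand F p E) {e : Ω} (he : e ∈ E) (he' : e ∉ axisOf S E) :
    ∀ (sd : StepData p S E j e) {B : Subgroup (RS S E (j + 2))}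
      (_hB : StepOut p ((RS S E (j + 1)).subgroupOf (RS S E (j + 2)))
        ((RS S E j).subgroupOf (RS S E (j + 2)))
        ((dSub p S E (RS S E (j + 1))).subgroupOf (RS S E (j + 2))) B ⟨e, sd.mem⟩)
      {φ : MulAut (RS S E (j + 1))} (_hφ : φ ∈ F.autGroup (RS S E (j + 1)))
      (x : RS S E (j + 1)), (x : Ω) ∈ B.map (RS S E (j + 2)).subtype →
      (φ x : Ω) ∈ B.map (RS S E (j + 2)).subtype := by
  set R := RS S E (j + 1) with hR
  set Rm := RS S E j with hRm
  set R' := RS S E (j + 2) with hR'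
  set D := dSub p S E R with hD
  intro sd B hB φ hφ x hx
  set B0 := B.map R'.subtype with hB0
  have hg := hgeo E h
  have hRS : R ≤ S := RS_le h.le _
  have hR'S : R' ≤ S := RS_le h.le _
  have := finite_of_le hR'S
  have := finite_of_le hRS
  have hmR : Rm ≤ R := RS_mono h.le (Nat.le_succ j)
  have hRR' : R ≤ R' := RS_mono h.le (Nat.le_succ _)
  have hEm : E ≤ Rm := RS_mono h.le (Nat.zero_le j)
  have hpR' : IsPGroup p R' := hS.pgroup.to_le hR'S
  have hB0R : B0 ≤ R := by
    rintro _ ⟨b, hb, rfl⟩; exact hB.ble hb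
  have hfinB0 := finite_of_le (hB0R.trans hRS)
  by_contra hnot
  set χ := R.subtype.comp φ.toMonoidHom with hχdef
  have hχ : χ ∈ F.Hom R := (mem_autGroup_iff F hRS).1 hφ
  set T := img χ B0 with hT
  have hTR : T ≤ R := by
    intro y hy
    obtain ⟨z, -, rfl⟩ := mem_img.1 hy
    exact (φ z).2
  have hDD : D ≤ T := by
    intro y hy
    have hyR : y ∈ R := (sup_le (phiSub_le R) ((axisOf_le E).trans (hEm.trans hmR)) : D ≤ R) hy
    refine mem_img.2 ⟨φ⁻¹ ⟨y, hyR⟩, ?_, ?_⟩
    · have h1 := h.map_dSub hg (α := φ⁻¹) ⟨y, hyR⟩ hy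
      exact ⟨⟨_, hRR' (φ⁻¹ ⟨y, hyR⟩).2⟩, hB.dle h1, rfl⟩
    · show ((φ (φ⁻¹ ⟨y, hyR⟩) : R) : Ω) = y
      rw [MulAut.apply_inv_self]
  have hcT : Nat.card T = Nat.card B0 := card_img (F.injective_of_mem hχ) hB0R
  have hcB0 : Nat.card B0 = Nat.card Rm := by
    rw [hB0, card_map_of_injective R'.subtype_injective, hB.cardB,
      ← card_subgroupOf (hmR.trans hRR'), sd.hyp.cardM]
  have hTsup : (R.subgroupOf R') ≤ T.subgroupOf R' ⊔ B := by
    refine (eq_of_le_of_card_ge (sup_le (fun y (hy : y ∈ T.subgroupOf R') => (show y ∈ R.subgroupOf R' from hTR hy)) hB.ble) ?_).ge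
    have hlt : B < T.subgroupOf R' ⊔ B := lt_of_le_of_ne le_sup_right fun heq => hnot (by
      have hmem : (⟨φ x, hRR' (φ x).2⟩ : R') ∈ T.subgroupOf R' := apply_mem_img χ hx
      exact ⟨_, heq.ge (mem_sup_left hmem), rfl⟩)
    refine le_trans (le_of_eq ?_) (CfsgLib.Transfer.prime_mul_card_le hpR' hlt)
    rw [hB.cardB, sd.hyp.cardR, sd.hyp.cardM]
  have := hB.bNormal
  have := sd.hyp.dNormal
  obtain ⟨t, ht, b, hb, htb⟩ := mem_sup_of_normal_right.1
    (hTsup (show (⟨e, sd.mem⟩ : R') ∈ R.subgroupOf R' from hmR (hEm he)))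
  set e' : R' := ⟨e, sd.mem⟩ with he'def
  obtain ⟨w, hw⟩ := hB.surj (e' * b⁻¹ * e'⁻¹) (hB.bNormal.conj_mem _ (B.inv_mem hb) e')
  have hwe : (w : Ω) * e * (w : Ω)⁻¹ ∈ T := by
    have h1 : w * e' * w⁻¹ = t * (e'⁻¹ * (⁅w, e'⁆⁻¹ * (e' * b⁻¹ * e'⁻¹))⁻¹ * (e'⁻¹)⁻¹) := by
      have h2 : t = e' * b⁻¹ := by rw [← htb, mul_inv_cancel_right]
      rw [h2, commutatorElement_def]; group
    have h3 : e'⁻¹ * (⁅w, e'⁆⁻¹ * (e' * b⁻¹ * e'⁻¹))⁻¹ * (e'⁻¹)⁻¹ ∈ D.subgroupOf R' :=
      sd.hyp.dNormal.conj_mem _ (inv_mem hw) _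
    have h4 : w * e' * w⁻¹ ∈ T.subgroupOf R' := h1 ▸ mul_mem ht (hDD h3)
    exact h4
  have hconj : ∀ y ∈ Rm, (w : Ω) * y * (w : Ω)⁻¹ ∈ T := by
    intro y hy
    rw [hRm, sd.gen] at hy
    have hle : E ⊔ D ≤ T.comap (MulAut.conj (w : Ω)).toMonoidHom := by
      have hDT : ∀ z ∈ D, (w : Ω) * z * (w : Ω)⁻¹ ∈ T := fun z hz => hDD (by
        have := sd.hyp.dNormal.conj_mem ⟨z, hRR' ((sup_le (phiSub_le R)
          ((axisOf_le E).trans (hEm.trans hmR)) : D ≤ R) hz)⟩ hz w
        exact this)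
      refine sup_le ((h.le_gen hS he he').trans (sup_le (zpowers_le.2 hwe) fun z hz => ?_)) hDT
      exact hDT z (mem_sup_right hz)
    exact hle hy
  have hwn : (w : Ω) ∈ Subgroup.normalizer (R : Set Ω) := w.2.2
  set α := φ⁻¹ * normAut (w : Ω) hwn with hαdef
  have hα : α ∈ F.autGroup R := mul_mem (inv_mem hφ)
    (autInducedBy_le_autGroup hRS (mem_autInducedBy_iff.2 ⟨w, hR'S w.2, fun y => rfl⟩))
  set ρ := R.subtype.comp α.toMonoidHom with hρdef
  have hρ : ρ ∈ F.Hom R := (mem_autGroup_iff F hRS).1 hα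
  obtain ⟨fE, hfE, -⟩ := ((mem_autGroup_iff F hRS).1 hα : IsIso F α).exists_res
    (R := E) (hEm.trans hmR)
  have h' := h.of_iso hfE
  have himg := RS_img h.le hρ le_rfl hg.card (hgeo _ h').card
  have hm' : RS S (img ρ E) j = B0 := by
    rw [← himg j (Nat.le_succ _)]
    refine eq_of_le_of_card_ge ?_ (card_img (F.injective_of_mem hρ) hmR ▸ hcB0.le)
    intro y hy
    obtain ⟨z, hz, rfl⟩ := mem_img.1 hy
    obtain ⟨b', hb', e''⟩ := mem_img.1 (hconj z hz)
    show ((φ⁻¹ (normAut (w : Ω) hwn z) : R) : Ω) ∈ B0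
    rw [show normAut (w : Ω) hwn z = φ b' from Subtype.ext e''.symm, MulAut.inv_apply_self]
    exact hb'
  have hR1 : RS S (img ρ E) (j + 1) = R := by
    rw [← himg (j + 1) le_rfl, img_self, hρdef]
    exact range_subtype_comp α
  refine sd.hyp.ne_top ((eq_top_iff' _).2 fun g => ?_)
  show (g : Ω) ∈ R
  rw [← hR1]
  refine ⟨hR'S g.2, ?_⟩
  rw [hm']
  have : Finite B0 := finite_of_le (hB0R.trans hRS)
  refine mem_normalizer_of_forall fun y hy => ?_
  obtain ⟨b', hb', rfl⟩ := hy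
  exact ⟨_, hB.bNormal.conj_mem b' hb' g, rfl⟩

end CfsgLib.Fusion.MaxClassCube
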