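import Cfsg.Agent.Lib.Fusion.MaxClassCube.Chain
import Cfsg.Agent.Lib.PGroup.MaxClassPowers

/-!
# In a saturated system on a group of maximal class no candidate exists
-/

set_option autoImplicit false
set_option linter.unusedSectionVars false

open Cfsg Cfsg.FusionSystem
open Subgroup
open Cfsg.Agent.S3806 (lc cent MC lc_anti comm_mem lc_one)
open CfsgLib.PGroup.UniformElement (MaxCl)
open scoped commutatorElement

namespace CfsgLib.Fusion.MaxClassCube

variable {Ω : Type*} [Group Ω] {S : Subgroup Ω} [Finite S] {p n : ℕ} [hp : Fact p.Prime]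
  {F : FusionSystem S}

/-- The torus extends along the chain, with the expected weights. -/
def Ext (F : FusionSystem S) (p : ℕ) (E : Subgroup Ω) (j : ℕ) : Prop :=
  ∀ τ u v c c' l, Tor F p E τ u v c c' l →
    ∃ ψ ∈ F.autGroup (RS S E (j + 1)),
      (∀ (x : E) (hx : (x : Ω) ∈ RS S E (j + 1)), (ψ ⟨x, hx⟩ : Ω) = τ x) ∧
      ∀ r : RS S E (j + 1), (ψ r : Ω) * ((r : Ω) ^ (u ^ (j + 2)))⁻¹ ∈ RS S E j

theorem Cand.geo_zero (hS : Setup F p) {E : Subgroup Ω} (h : Cand F p E) : Geo p S E 0 := by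
  have hN := h.card_RS_one hS
  refine ⟨fun i hi => ?_, fun r hr a ha => (mem_axisOf.1 ha).2 r hr, fun T hET hT hTE => ?_⟩
  · rcases i with _ | _ | i
    · exact h.card
    · exact hN
    · omega
  · have hle : RS S E 1 ≤ S := RS_le h.le 1
    have := finite_of_le hle
    have := finite_of_le (hT.trans hle)
    refine (eq_of_le_of_card_ge hT ?_).ge
    have hlt : E.subgroupOf (RS S E 1) < T.subgroupOf (RS S E 1) :=
      lt_of_le_of_ne (fun x hx => hET hx) fun heq => hTE (fun y hy => by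
        have : (⟨y, hT hy⟩ : RS S E 1) ∈ T.subgroupOf (RS S E 1) := hy
        rw [← heq] at this
        exact this)
    have h1 := CfsgLib.Transfer.prime_mul_card_le (hS.pgroup.to_le hle) hlt
    rw [card_subgroupOf (show E ≤ RS S E 1 from RS_mono h.le (Nat.zero_le 1)),
      show Nat.card (T.subgroupOf (RS S E 1)) = Nat.card T from card_subgroupOf hT, h.card,
      ← pow_succ'] at h1
    rw [hN]; exact h1

theorem exists_autExtension {P M : Subgroup Ω} {α : MulAut P}
    (hr : F.IsReceptive P) (hPM : P ≤ M) (hM : M = normalizerIn S P)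
    (hα : α ∈ F.autGroup P) (hnorm : ∀ g ∈ autInducedBy S P, α * g * α⁻¹ ∈ autInducedBy S P) :
    ∃ ψ ∈ F.autGroup M, ∀ x : P, (ψ (Subgroup.inclusion hPM x) : Ω) = α x := by
  subst hM
  have hPS : P ≤ S := hr.1
  have hiso : IsIso F α := (mem_autGroup_iff F hPS).1 hα
  have hM : normalizerIn S P ≤ extender S P (P.subtype.comp α.toMonoidHom) := fun g hg => by
    refine mem_extender_iso_iff.2 ⟨hg.1, hg.2, ?_⟩
    have h1 := hnorm _ (mem_autInducedBy_iff.2 ⟨g, hg.1, fun x => rfl⟩ :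
      normAut g hg.2 ∈ autInducedBy S P)
    convert h1 using 1
    exact MulEquiv.ext fun y => rfl
  obtain ⟨φ, hφ, hφe⟩ := exists_extension hr hiso hPM hM
  have := finite_of_le (normalizerIn_le (S := S) P)
  have hr' : φ.range = normalizerIn S P := by
    refine eq_of_le_of_card_ge ?_ ?_
    · rintro _ ⟨g, rfl⟩
      exact apply_mem_normalizerIn hφ hPM hφe inf_le_right g
    · rw [Nat.card_congr (MonoidHom.ofInjective (F.injective_of_mem hφ)).toEquiv]
  obtain ⟨e, he, hee⟩ := exists_iso_of_range hφ hr'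
  exact ⟨e, (mem_autGroup_iff F (normalizerIn_le P)).2 he, fun x => by rw [hee, hφe]⟩

theorem Cand.ext_zero (hS : Setup F p) {E : Subgroup Ω} (h : Cand F p E) : Ext F p E 0 := by
  intro τ u v c c' l hT
  have hEN : E ≤ RS S E 1 := le_normalizerIn h.le
  obtain ⟨ψ, hψ, hψe⟩ := exists_autExtension (M := RS S E 1)
    (receptive_of_isCentric hS.pgroup hS.sat h.centric) hEN rfl hT.mem
    fun g hg => by rw [hT.conj_eq g hg]; exact pow_mem hg _
  refine ⟨ψ, hψ, fun x hx => hψe x, fun r => ?_⟩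
  set g : normalizerIn S E := ψ r * (r ^ (u ^ (0 + 2)))⁻¹ with hg
  show (g : Ω) ∈ E
  rw [← h.mem_ker_iff g]
  let f : RS S E 1 →* MulAut E := actHom S E
  change f (ψ r * (r ^ (u ^ (0 + 2)))⁻¹) = 1
  rw [map_mul, map_inv, map_pow, mul_inv_eq_one]
  have hr2 : (r : Ω) ∈ normalizerIn S E := r.2
  have hψ2 : ((ψ r : RS S E 1) : Ω) ∈ normalizerIn S E := (ψ r).2
  change normAut ((ψ r : RS S E 1) : Ω) hψ2.2 = normAut (r : Ω) hr2.2 ^ u ^ (0 + 2)
  rw [
    show u ^ (0 + 2) = u * u by rw [zero_add, pow_two],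
    ← hT.conj_eq (normAut (r : Ω) hr2.2) (mem_autInducedBy_iff.2 ⟨r, hr2.1, fun y => rfl⟩),
    eq_mul_inv_iff_mul_eq]
  refine MulEquiv.ext fun y => Subtype.ext ?_
  simp only [MulAut.mul_apply, normAut_apply]
  rw [← hψe y, ← hψe (normAut (r : Ω) hr2.2 y)]
  have e1 : Subgroup.inclusion hEN (normAut (r : Ω) hr2.2 y) =
      r * Subgroup.inclusion hEN y * r⁻¹ := Subtype.ext (by
    show (normAut (r : Ω) hr2.2 y : Ω) = (r : Ω) * y * (r : Ω)⁻¹
    rfl)
  have e2 := congrArg (fun q : RS S E 1 => ((ψ q : RS S E 1) : Ω)) e1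
  simp only [map_mul, map_inv, Subgroup.coe_mul, Subgroup.coe_inv] at e2
  exact e2.symm

theorem Cand.geo_uniq_succ (hS : Setup F p) {E : Subgroup Ω} (h : Cand F p E) {j : ℕ}
    (hg : Geo p S E j) :
    ∀ T, E ≤ T → T ≤ RS S E (j + 2) → ¬ T ≤ RS S E (j + 1) → RS S E (j + 2) ≤ T := by
  intro T hET hT hTR
  obtain ⟨e, he, he'⟩ := h.exists_notMem_axis hS
  have sd := h.stepData hS hg he he'
  set R := RS S E (j + 1) with hR
  set Rm := RS S E j with hRm
  set R' := RS S E (j + 2) with hR'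
  have hR'S : R' ≤ S := RS_le h.le _
  have := finite_of_le hR'S
  have hRR' : R ≤ R' := RS_mono h.le (Nat.le_succ _)
  have := finite_of_le (RS_le (S := S) h.le j)
  obtain ⟨t, htT, htR⟩ := SetLike.not_le_iff_exists.1 hTR
  have hnot : ¬ T ⊓ R ≤ Rm := by
    intro hle
    refine htR ?_
    have hD : ∀ y ∈ dSub p S E R, t * y * t⁻¹ ∈ Rm := fun y hy => by
      have hyR' : y ∈ R' := by
        have hle' : dSub p S E R ≤ R' := sup_le ((phiSub_le R).trans hRR')
          ((axisOf_le E).trans (RS_mono h.le (Nat.zero_le _)))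
        exact hle' hy
      exact sd.hyp.dle (sd.hyp.dNormal.conj_mem ⟨y, hyR'⟩ hy ⟨t, hT htT⟩)
    refine ⟨(hT htT).1, mem_normalizer_of_forall fun x hx => ?_⟩
    have hgen : E ⊔ dSub p S E R ≤ Rm.comap (MulAut.conj t).toMonoidHom :=
      sup_le (fun y hy => hle ⟨T.mul_mem (T.mul_mem htT (hET hy)) (T.inv_mem htT),
        conj_mem_of_mem_normalizer (hT htT).2 (RS_mono h.le (Nat.zero_le _) hy)⟩) hD
    rw [← sd.gen] at hgen
    exact hgen hx
  have hRT : R ≤ T := (hg.uniq (T ⊓ R) (le_inf hET (RS_mono h.le (Nat.zero_le _))) inf_le_right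
    hnot).trans inf_le_left
  have := finite_of_le (hT.trans hR'S)
  refine (eq_of_le_of_card_ge hT ?_).ge
  have hlt : R.subgroupOf R' < T.subgroupOf R' :=
    lt_of_le_of_ne (fun x hx => hRT hx) fun heq => htR (by
      have : (⟨t, hT htT⟩ : R') ∈ T.subgroupOf R' := htT
      rw [← heq] at this
      exact this)
  have h1 := CfsgLib.Transfer.prime_mul_card_le (hS.pgroup.to_le hR'S) hlt
  rw [card_subgroupOf hRR', card_subgroupOf hT, hg.card _ le_rfl, ← pow_succ'] at h1
  rw [sd.card]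
  exact h1

theorem Cand.ext_succ (hS : Setup F p) {j : ℕ} (hgeo : ∀ E, Cand F p E → Geo p S E j)
    {E : Subgroup Ω} (h : Cand F p E) (hext : Ext F p E j) : Ext F p E (j + 1) := by
  intro τ u v c c' l hT
  have hg := hgeo E h
  have sd := h.stepData hS hg hT.c'_mem hT.c'_notMem
  set R := RS S E (j + 1) with hR
  set Rm := RS S E j with hRm
  set R' := RS S E (j + 2) with hR'
  set D := dSub p S E R with hD
  have hRS : R ≤ S := RS_le h.le _
  have hR'S : R' ≤ S := RS_le h.le _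
  obtain ⟨ψ, hψ, hψe, hψw⟩ := hext τ u v c c' l hT
  have := finite_of_le hR'S
  have := finite_of_le hRS
  have hmR : Rm ≤ R := RS_mono h.le (Nat.le_succ j)
  have hRR' : R ≤ R' := RS_mono h.le (Nat.le_succ _)
  have hEm : E ≤ Rm := RS_mono h.le (Nat.zero_le j)
  have hAR : axisOf S E ≤ R := (axisOf_le E).trans (hEm.trans hmR)
  have hphiR : phiSub p R ≤ R := phiSub_le R
  have hpR : IsPGroup p R := hS.pgroup.to_le hRS
  have hpR' : IsPGroup p R' := hS.pgroup.to_le hR'S
  obtain ⟨-, B, hB⟩ := sd.hyp.out hpR'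
  have hfn := h.card_normalizer_conj hS hgeo
  obtain ⟨hfa, hrec⟩ := fullyAutomized_receptive_of_fullyNormalized hS.pgroup hS.sat hfn
  obtain ⟨-, hidx⟩ := (isFullyAutomized_iff hS.pgroup).1 hfa
  have hmapB := fun {φ : MulAut R} hφ x hx => h.map_B hS hgeo hT.c'_mem hT.c'_notMem sd hB
    (φ := φ) hφ x hx
  have := hB.bNormal
  set B0 := B.map R'.subtype with hB0
  set B1 := B0.subgroupOf R with hB1
  set D1 := D.subgroupOf R with hD1
  set M1 := (phiSub p R).subgroupOf R with hM1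
  set A1 := (axisOf S E).subgroupOf R with hA1
  have hM1top : M1 = phiSub p (⊤ : Subgroup R) := by
    rw [hM1, phiSub_subgroupOf le_rfl, Subgroup.subgroupOf_self]
  have hBn : B1.Normal := normal_subgroupOf_of_conj fun g hg' x hx => by
    obtain ⟨b, hb, rfl⟩ := hx
    exact ⟨_, hB.bNormal.conj_mem b hb ⟨g, hRR' hg'⟩, rfl⟩
  have hDR : D ≤ R := sup_le hphiR hAR
  have hDn : D1.Normal := normal_subgroupOf_of_conj fun g hg' x hx =>
    sd.hyp.dNormal.conj_mem ⟨x, hRR' (hDR hx)⟩ hx ⟨g, hRR' hg'⟩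
  have hMn : M1.Normal := normal_subgroupOf_of_conj fun g hg' x hx =>
    conj_mem_phiSub (Subgroup.le_normalizer hg') hx
  have hinvA : ∀ α ∈ F.autGroup R, ∀ x ∈ A1, α x ∈ A1 := by
    intro α _ x hx
    rw [hA1, mem_subgroupOf, h.mem_axis_iff hg] at hx ⊢
    refine ⟨(α x).2, fun r hr => ?_⟩
    have h1 := congrArg α (Subtype.ext (hx.2 _ (α.symm ⟨r, hr⟩).2) :
      α.symm ⟨r, hr⟩ * x = x * α.symm ⟨r, hr⟩)
    rw [map_mul, map_mul, MulEquiv.apply_symm_apply] at h1
    exact congrArg Subtype.val h1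
  have hinvM : ∀ α ∈ F.autGroup R, ∀ x ∈ M1, α x ∈ M1 := by
    intro α _ x hx
    rw [hM1top] at hx ⊢
    have : (phiSub p (⊤ : Subgroup R)).map α.toMonoidHom = phiSub p (⊤ : Subgroup R) := by
      rw [phiSub_map, map_top_of_surjective _ α.surjective]
    exact this.le (mem_map_of_mem _ hx)
  have hinvB : ∀ α ∈ F.autGroup R, ∀ x ∈ B1, α x ∈ B1 := fun α hα x hx => hmapB hα x hx
  have hinvD : ∀ α ∈ F.autGroup R, ∀ x ∈ D1, α x ∈ D1 := fun α _ x hx => h.map_dSub hg x hx
  let C1 : ℕ → Subgroup R := fun i => if i = 0 then D1 else if i = 1 then B1 else ⊤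
  let C2 : ℕ → Subgroup R := fun i => if i = 0 then A1 ⊓ M1 else A1
  have hinv1 : ∀ β ∈ F.autGroup R, ∀ i ≤ 2, ∀ x ∈ C1 i, β x ∈ C1 i := by
    intro β hβ i _ x hx
    simp only [C1] at hx ⊢
    split_ifs at hx ⊢
    · exact hinvD β hβ x hx
    · exact hinvB β hβ x hx
    · exact Subgroup.mem_top _
  have hinv2 : ∀ β ∈ F.autGroup R, ∀ i ≤ 1, ∀ x ∈ C2 i, β x ∈ C2 i := by
    intro β hβ i _ x hx
    simp only [C2] at hx ⊢
    split_ifs at hx ⊢
    · exact ⟨hinvA β hβ x hx.1, hinvM β hβ x hx.2⟩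
    · exact hinvA β hβ x hx
  set K := stabSeries (F.autGroup R) C1 2 ⊓ stabSeries (F.autGroup R) C2 1 with hK
  have hKp : IsPGroup p K := by
    refine isPGroup_of_trivial_sections hpR K (A := A1) (B := B1) (D := D1) (M := M1) ?_
      (hM1top ▸ phiSub_top_le_frattini hpR) (fun α hα => hinvB α hα.1.1) (fun α hα => hinvD α hα.1.1)
      (fun α hα => hinvM α hα.1.1) (fun α hα x => ?_) (fun α hα x hx => ?_) (fun α hα x hx => ?_)
    · rw [hD1, hD, dSub, Subgroup.subgroupOf_sup hphiR hAR]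
    · have := hα.1.2.2 1 (by norm_num) x (by simp [C1])
      simpa [C1] using this
    · have := hα.1.2.2 0 (by norm_num) x (by simpa [C1] using hx)
      simpa [C1] using this
    · have := hα.2.2.2 0 (by norm_num) x (by simpa [C2] using hx)
      simp only [C2, if_true] at this
      exact this.2
  have hSK : autInducedBy S R ≤ K := by
    intro α hα
    have hαX : α ∈ F.autGroup R := autInducedBy_le_autGroup hRS hα
    obtain ⟨g, hgS, hge⟩ := mem_autInducedBy_iff.1 hα
    have hgR' : g ∈ R' := ⟨hgS, mem_normalizer_of_aut hge⟩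
    set g' : R' := ⟨g, hgR'⟩ with hg'
    have hiff : ∀ (Q : Subgroup R), (∀ β ∈ F.autGroup R, ∀ x ∈ Q, β x ∈ Q) →
        ∀ x, x ∈ Q ↔ α x ∈ Q := fun Q hQ x =>
      ⟨hQ α hαX x, fun hx => by simpa using hQ α⁻¹ (inv_mem hαX) _ hx⟩
    have hmove : ∀ x : R, ((x⁻¹ * α x : R) : Ω) =
        ((⟨x, hRR' x.2⟩ : R')⁻¹ * ⁅g', (⟨x, hRR' x.2⟩ : R')⁆ * ⟨x, hRR' x.2⟩ : R') := fun x => by
      simp only [hg', Subgroup.coe_mul, Subgroup.coe_inv, commutatorElement_def, hge]
      group
    have hA2 : ∀ x : R, x ∈ A1 → x⁻¹ * α x ∈ A1 ⊓ M1 := by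
      intro x hx
      set A2 := (axisOf S E).subgroupOf R'
      set T2 := (axisOf S E).subgroupOf R' ⊓ (phiSub p R).subgroupOf R'
      have hA2n : A2.Normal := normal_subgroupOf_of_conj fun t ht a ha => by
        rw [h.mem_axis_iff hg] at ha ⊢
        refine ⟨conj_mem_of_mem_normalizer ht.2 ha.1, fun r hr => ?_⟩
        have h1 := ha.2 _ (show t⁻¹ * r * t ∈ R by
          simpa using conj_mem_of_mem_normalizer (inv_mem ht.2) hr)
        have h2 := congrArg (fun q => t * q * t⁻¹) h1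
        simpa [mul_assoc] using h2
      have hP2n : ((phiSub p R).subgroupOf R').Normal := normal_subgroupOf_of_conj fun t ht a ha =>
        conj_mem_phiSub ht.2 ha
      have hT2n : T2.Normal := inferInstance
      have hxA : (⟨x, hRR' x.2⟩ : R') ∈ A2 := hx
      have hA2c : Nat.card A2 = p ^ 2 := by
        rw [card_subgroupOf (hAR.trans hRR'), h.axis_card hS]
      have hkey : ⁅g', (⟨x, hRR' x.2⟩ : R')⁆ ∈ T2 := by
        obtain ⟨i, hi, hic⟩ := (Nat.dvd_prime_pow hp.out).1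
          (hA2c ▸ card_dvd_of_le (inf_le_left : T2 ≤ A2))
        interval_cases i
        · exfalso
          -- `T2` contains a commutator of `c'`
          obtain ⟨w, hw, hwc⟩ : ∃ w ∈ normalizerIn S E, ⁅w, c'⁆ ≠ 1 := by
            by_contra hne
            push Not at hne
            exact hT.c'_notMem (mem_axisOf.2 ⟨hT.c'_mem, fun w hw =>
              commutatorElement_eq_one_iff_mul_comm.1 (hne w hw)⟩)
          have hw1 : w ∈ R := RS_mono h.le (show 1 ≤ j + 1 by omega) hw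
          have hcax : ⁅w, c'⁆ ∈ axisOf S E := by
            rw [hT.axis]; exact mem_sup_left (hT.comm_mem w hw c' hT.c'_mem)
          have hmem : (⟨⁅w, c'⁆, hRR' (hAR hcax)⟩ : R') ∈ T2 :=
            ⟨hcax, comm_mem_phiSub hw1 (hmR (hEm hT.c'_mem))⟩
          have hb : T2 = ⊥ := eq_bot_of_card_eq _ (hic.trans (pow_zero p))
          rw [hb, mem_bot] at hmem
          exact hwc (congrArg Subtype.val hmem)
        · exact comm_mem_of_card hpR' (R := A2) (T := T2) inf_le_left
            (by rw [hA2c, hic, pow_one, pow_two]) g' hxA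
        · have hb : T2 = A2 := eq_of_le_of_card_ge inf_le_left (hA2c.le.trans hic.ge)
          rw [hb]
          exact mul_mem (hA2n.conj_mem _ hxA g') (inv_mem hxA)
      have h3 : (⟨x, hRR' x.2⟩ : R')⁻¹ * ⁅g', (⟨x, hRR' x.2⟩ : R')⁆ * ⟨x, hRR' x.2⟩ ∈ T2 := by
        simpa using hT2n.conj_mem _ hkey (⟨x, hRR' x.2⟩ : R')⁻¹
      constructor
      · show ((x⁻¹ * α x : R) : Ω) ∈ axisOf S E
        rw [hmove]; exact h3.1
      · show ((x⁻¹ * α x : R) : Ω) ∈ phiSub p R
        rw [hmove]; exact h3.2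
    have hxD : ∀ x : R, x ∈ B1 → x⁻¹ * α x ∈ D1 := by
      rintro x ⟨b, hb, hbx⟩
      obtain rfl : b = ⟨x, hRR' x.2⟩ := Subtype.ext hbx
      show ((x⁻¹ * α x : R) : Ω) ∈ D
      rw [hmove]
      have := sd.hyp.dNormal.conj_mem _ (hB.comm_B g' _ hb) (⟨x, hRR' x.2⟩ : R')⁻¹
      rw [inv_inv] at this
      exact this
    have hxB : ∀ x : R, x⁻¹ * α x ∈ B1 := by
      intro x
      show ((x⁻¹ * α x : R) : Ω) ∈ B0
      rw [hmove]
      refine ⟨(⟨x, hRR' x.2⟩ : R')⁻¹ * ⁅g', (⟨x, hRR' x.2⟩ : R')⁆ * ⟨x, hRR' x.2⟩, ?_, rfl⟩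
      have := hB.bNormal.conj_mem _ (hB.comm_R g' ⟨x, hRR' x.2⟩ x.2) (⟨x, hRR' x.2⟩ : R')⁻¹
      rwa [inv_inv] at this
    refine ⟨⟨hαX, fun i hi => hiff _ fun β hβ => hinv1 β hβ i hi, fun i hi x hx => ?_⟩,
      hαX, fun i hi => hiff _ fun β hβ => hinv2 β hβ i hi, fun i hi x hx => ?_⟩
    · interval_cases i
      · simp [C1] at hx ⊢; exact hxD x hx
      · simp [C1]; exact hxB x
    · interval_cases i
      simp [C2] at hx ⊢
      exact hA2 x hx
  have hKX : K ≤ F.autGroup R := fun α hα => hα.1.1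
  have hKS : K ≤ autInducedBy S R := by
    rw [← Subgroup.relIndex_eq_one]
    obtain ⟨m, hm⟩ := IsPGroup.iff_card.1 hKp
    have h1 := hm ▸ Subgroup.relIndex_dvd_card (autInducedBy S R) K
    obtain ⟨i, -, hi⟩ := (Nat.dvd_prime_pow hp.out).1 h1
    rcases Nat.eq_zero_or_pos i with rfl | hi0
    · rw [hi, pow_zero]
    · exfalso
      refine hidx ?_
      rw [← Subgroup.relIndex_mul_relIndex _ K _ hSK hKX, hi]
      exact dvd_mul_of_dvd_left (dvd_pow_self p hi0.ne') _
  have hnorm : ∀ g ∈ autInducedBy S R, ψ * g * ψ⁻¹ ∈ autInducedBy S R := fun g hg' =>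
    hKS ⟨conj_mem_stabSeries hinv1 (hSK hg').1 hψ, conj_mem_stabSeries hinv2 (hSK hg').2 hψ⟩
  obtain ⟨χ, hχ, hχe⟩ := exists_autExtension (M := R') hrec hRR' rfl hψ hnorm
  refine ⟨χ, hχ, fun x hx => ?_, fun r => ?_⟩
  · rw [show (⟨(x : Ω), hx⟩ : R') = Subgroup.inclusion hRR' ⟨x, hmR (hEm x.2)⟩ from rfl, hχe,
      hψe]
  · rw [show u ^ (j + 1 + 2) = u ^ (j + 2) * u by rw [show j + 1 + 2 = j + 2 + 1 by omega, pow_succ]]
    refine hB.weight sd.hyp (fun b hb => ?_) (ψ := χ) (v := v) (fun b hb => ?_) hT.inv ?_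
      (fun q hq => ?_) r
    · rw [mem_subgroupOf, SubgroupClass.coe_pow]
      exact mem_sup_left (pow_mem_phiSub (hB.ble hb))
    · have hbR : (b : Ω) ∈ R := hB.ble hb
      have h1 : (ψ ⟨b, hbR⟩ : Ω) ∈ B0 := hmapB hψ ⟨b, hbR⟩ ⟨b, hb, rfl⟩
      obtain ⟨b', hb', hbe⟩ := h1
      have : χ b = b' := Subtype.ext (by
        rw [show b = Subgroup.inclusion hRR' ⟨b, hbR⟩ from rfl, hχe, ← hbe]; rfl)
      rwa [this]
    · refine Subtype.ext ?_
      rw [show (⟨c', sd.mem⟩ : R') = Subgroup.inclusion hRR' ⟨c', hmR (hEm hT.c'_mem)⟩ from rfl,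
        hχe, hψe ⟨c', hT.c'_mem⟩, hT.tau_c']
      simp
    · show ((χ q : R') : Ω) * (((q : Ω)) ^ (u ^ (j + 2)))⁻¹ ∈ Rm
      rw [show q = Subgroup.inclusion hRR' ⟨q, hq⟩ from rfl, hχe]
      exact hψw ⟨q, hq⟩

theorem zpowers_meet {G : Type*} [Group G] {c l x : G} (hc : c ^ p = 1) (hl : l ^ p = 1)
    (hcl : c ∉ Subgroup.zpowers l) (hxc : x ∈ Subgroup.zpowers c) (hxl : x ∈ Subgroup.zpowers l) :
    x = 1 := by
  by_contra hx
  refine hcl ?_
  rw [← zpowers_eq_of_mem hl hxl hx, zpowers_eq_of_mem hc hxc hx]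
  exact mem_zpowers c

/-- The exceptional configuration at the top of a group of odd maximal class does not occur. -/
theorem Cand.no_moved (hS : Setup F p) (hp5 : 5 ≤ p) (hX : MaxCl (↥S) p n) (h5 : 5 ≤ n)
    {E : Subgroup Ω} (h : Cand F p E) {j : ℕ} (hg : Geo p S E j)
    (hj : j + 5 = p) (hc : Nat.card (RS S E (j + 2)) = p ^ (3 + (j + 2)))
    (hmove : ¬ ∀ r ∈ RS S E (j + 2), ∀ a ∈ axisOf S E, r * a = a * r) {τ : MulAut E} {u v : ℕ}
    {c c' l : Ω} (hT : Tor F p E τ u v c c' l)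
    (hfix : ∀ a ∈ axisOf S E, (∀ r ∈ RS S E (j + 2), r * a = a * r) → a ∈ Subgroup.zpowers l) :
    False := by
  have hM : MC (↥S) p n := ⟨hX.card, hX.cls, h5⟩
  have hp0 := hp.out.pos
  have := finite_of_le h.le
  have hcent : ∀ z ∈ lc (↥S) (n - 1), ∀ x : S, x * z = z * x := by
    intro z hz x
    refine (commutatorElement_eq_one_iff_mul_comm.1 ?_).symm
    have := comm_mem (d := n) (i := n - 1) (j := 1) (by omega) le_rfl (by omega) hz
      (lc_one (X := ↥S) ▸ Subgroup.mem_top x)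
    rwa [hX.lc_bot le_rfl, mem_bot] at this
  have hZl : ∀ z ∈ lc (↥S) (n - 1), (z : Ω) ∈ Subgroup.zpowers l := by
    intro z hz
    have hzE : (z : Ω) ∈ E := h.centralizer_eq.le ⟨z.2, fun y hy =>
      congrArg Subtype.val (hcent z hz ⟨y, h.le hy⟩)⟩
    refine hfix _ (mem_axisOf.2 ⟨hzE, fun w hw => congrArg Subtype.val (hcent z hz ⟨w, hw.1⟩)⟩)
      fun r hr => congrArg Subtype.val (hcent z hz ⟨r, hr.1⟩)
  have hlE : (l : Ω) ^ p = 1 := h.pow l hT.l_mem
  have hcE : (c : Ω) ^ p = 1 := h.pow c hT.c_mem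
  have hlcE : ∀ {i : ℕ}, 2 ≤ i → i + 2 ≤ n → (∀ t ∈ lc (↥S) i, ∀ e : S, (e : Ω) ∈ E →
      ⁅t, e⁆ ∈ lc (↥S) (n - 1)) → ∀ t ∈ lc (↥S) i, (t : Ω) ∈ E := by
    intro i _ _ hi t ht
    have htn : (t : Ω) ∈ normalizerIn S E := ⟨t.2, mem_normalizer_of_forall fun y hy => by
      have h1 : ((⁅t, (⟨y, h.le hy⟩ : S)⁆ : S) : Ω) ∈ E :=
        (zpowers_le.2 hT.l_mem) (hZl _ (hi t ht _ hy))
      have h2 := E.mul_mem h1 hy
      simpa [commutatorElement_def, mul_assoc] using h2⟩
    refine h.centralizer_eq.le ⟨t.2, fun y hy => ?_⟩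
    have h1 : ⁅(t : Ω), y⁆ = 1 := zpowers_meet hcE hlE hT.c_notMem (hT.comm_mem _ htn y hy)
      (by simpa [commutatorElement_def] using hZl _ (hi t ht ⟨y, h.le hy⟩ hy))
    exact (commutatorElement_eq_one_iff_mul_comm.1 h1).symm
  -- the axis is the second centre
  have hTE := hlcE (i := n - 2) (by omega) (by omega) fun t ht e _ =>
    comm_mem (j := 1) (by omega) le_rfl (by omega) ht (lc_one (X := ↥S) ▸ Subgroup.mem_top e)
  set A2 := (axisOf S E).subgroupOf S with hA2
  have hAS : axisOf S E ≤ S := (axisOf_le E).trans h.le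
  have hTA : lc (↥S) (n - 2) = A2 := by
    refine eq_of_le_of_card_ge (fun t ht => mem_axisOf.2 ⟨hTE t ht, fun w hw => ?_⟩) (by
      rw [hA2, card_subgroupOf hAS, h.axis_card hS, hX.lc_card (by omega) (by omega),
        show n - (n - 2) = 2 by omega])
    have h2 : ⁅(⟨w, hw.1⟩ : S), t⁆ ∈ lc (↥S) (n - 1) :=
      comm_mem (i := 1) le_rfl (by omega) (by omega) (lc_one (X := ↥S) ▸ Subgroup.mem_top _) ht
    have h1 : ⁅w, (t : Ω)⁆ = 1 := zpowers_meet hcE hlE hT.c_notMem
      (hT.comm_mem _ hw _ (hTE t ht)) (by simpa [commutatorElement_def] using hZl _ h2)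
    exact commutatorElement_eq_one_iff_mul_comm.1 h1
  -- the order of `S`
  set R := RS S E (j + 1) with hR
  set R' := RS S E (j + 2) with hR'
  have hRS : R ≤ S := RS_le h.le _
  have hR'S : R' ≤ S := RS_le h.le _
  have hRR' : R ≤ R' := RS_mono h.le (Nat.le_succ _)
  have := finite_of_le hR'S
  obtain ⟨a0, ha0, ha0'⟩ := SetLike.not_le_iff_exists.1 (hX.lc_lt (i := n - 2) (by omega) (by omega))
  rw [show n - 2 + 1 = n - 1 by omega] at ha0'
  have hcomm : ∀ g : S, ⁅g, a0⁆ ∈ lc (↥S) (n - 1) := fun g =>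
    comm_mem (i := 1) le_rfl (by omega) (by omega) (lc_one (X := ↥S) ▸ Subgroup.mem_top g) ha0
  let f : S →* S := MonoidHom.mk' (fun g => ⁅g, a0⁆) fun a b =>
    CfsgLib.PGroup.comm_mul_left (mem_center_iff.2 (hcent _ (hcomm b)))
  set C := Subgroup.centralizer (lc (↥S) (n - 2) : Set S) with hC
  have hker : f.ker ≤ C := by
    intro g hg'
    have hle : lc (↥S) (n - 2) ≤ Subgroup.centralizer ({g} : Set S) := by
      refine (hX.lc_gen (by omega) (by omega) ha0 (by
        rwa [show n - 2 + 1 = n - 1 by omega])).trans (sup_le (zpowers_le.2 ?_) fun z hz => ?_)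
      · exact mem_centralizer_singleton_iff.2 (commutatorElement_eq_one_iff_mul_comm.1 hg').symm
      · rw [show n - 2 + 1 = n - 1 by omega] at hz
        exact mem_centralizer_singleton_iff.2 (hcent z hz g).symm
    exact mem_centralizer_iff.2 fun x hx => mem_centralizer_singleton_iff.1 (hle hx)
  have hCi : C.index ≤ p := by
    have hd : f.range ≤ lc (↥S) (n - 1) := by rintro _ ⟨g, rfl⟩; exact hcomm g
    have h1 : C.index ∣ Nat.card f.range := by rw [← index_ker]; exact index_dvd_of_le hker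
    refine (Nat.le_of_dvd Nat.card_pos h1).trans ((card_le_of_le hd).trans (le_of_eq ?_))
    rw [hX.lc_card (by omega) (by omega), show n - (n - 1) = 1 by omega, pow_one]
  have hCR : C = R.subgroupOf S := by
    refine (le_antisymm ?_ fun r hr => ?_)
    swap
    · refine mem_centralizer_iff.2 fun x hx => Subtype.ext ?_
      rw [hTA] at hx
      exact (hg.central _ hr _ hx).symm
    set C0 := C.map S.subtype with hC0
    have hC0S : C0 ≤ S := map_subtype_le C
    have := finite_of_le hC0S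
    have hRC : R ≤ C0 := fun r hr => ⟨⟨r, hRS hr⟩, by
      refine mem_centralizer_iff.2 fun x hx => Subtype.ext ?_
      rw [hTA] at hx
      exact (hg.central _ hr _ hx).symm, rfl⟩
    by_contra hne
    have hlt : R < C0 := lt_of_le_of_ne hRC fun heq => hne fun x hx => by
      show (x : Ω) ∈ R
      rw [heq]; exact mem_map_of_mem _ hx
    obtain ⟨x, hx, hxR⟩ := SetLike.exists_of_lt (lt_normalizerIn (hS.pgroup.to_le hC0S) hlt)
    have hxR' : x ∈ R' := ⟨hC0S hx.1, hx.2⟩
    have hle : (⊤ : Subgroup R') ≤ C0.subgroupOf R' := by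
      have hlt' : R.subgroupOf R' < C0.subgroupOf R' := lt_of_le_of_ne (fun y hy => hRC hy)
        fun heq => hxR (by
          have : (⟨x, hxR'⟩ : R') ∈ C0.subgroupOf R' := hx.1
          rw [← heq] at this
          exact this)
      have h1 := CfsgLib.Transfer.prime_mul_card_le (hS.pgroup.to_le hR'S) hlt'
      rw [card_subgroupOf hRR', hg.card _ le_rfl, ← pow_succ'] at h1
      exact (Subgroup.eq_top_of_le_card _ (by rw [hc]; exact h1)).ge
    refine hmove fun r hr a ha => ?_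
    obtain ⟨y, hy, hyr⟩ := hle (Subgroup.mem_top (⟨r, hr⟩ : R'))
    have h2 := congrArg Subtype.val (mem_centralizer_iff.1 hy ⟨a, hAS ha⟩ (hTA.ge ha))
    change a * (y : Ω) = y * a at h2
    rw [show (y : Ω) = r from hyr] at h2
    exact h2.symm
  have hnj : n = p := by
    have h1 := C.card_mul_index
    rw [hCR, card_subgroupOf hRS, hg.card _ le_rfl, hX.card] at h1
    have h2 : p ^ n ≤ p ^ (3 + (j + 1)) * p := by
      rw [← h1]; exact Nat.mul_le_mul_left _ (hCR ▸ hCi)
    rw [← pow_succ] at h2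
    have h3 := card_le_of_le hR'S
    rw [hc, hX.card] at h3
    have := (Nat.pow_le_pow_iff_right hp.out.one_lt).1 h2
    have := (Nat.pow_le_pow_iff_right hp.out.one_lt).1 h3
    omega
  -- degree of commutativity
  obtain ⟨K, hK⟩ := hp.out.odd_of_ne_two (by omega)
  have hlev := hM.levels (k := K) (by omega) (by omega)
  have e1 : cent (↥S) (n - 2) = cent (↥S) 2 := hM.cent_eq (by omega) (by omega) (hlev _ (by omega) (by omega))
  have e2 : cent (↥S) (n - 3) = cent (↥S) 2 := hM.cent_eq (by omega) (by omega) (hlev _ (by omega) (by omega))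
  have hEc : ∀ e : S, (e : Ω) ∈ E → e ∈ cent (↥S) (n - 3) := by
    intro e he
    rw [e2, ← e1, Cfsg.Agent.S3806.mem_cent]
    intro x hx
    rw [hTA] at hx
    rw [commutatorElement_eq_one_iff_mul_comm.2 (Subtype.ext (h.comm _ he _ (axisOf_le E hx)))]
    exact one_mem _
  have hT3E := hlcE (i := n - 3) (by omega) (by omega) fun t ht e he => by
    have h1 := Cfsg.Agent.S3806.mem_cent.1 (hEc e he) t ht
    rw [show n - 3 + 2 = n - 1 by omega] at h1
    rw [← commutatorElement_inv]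
    exact inv_mem h1
  have hE3 : E.subgroupOf S = lc (↥S) (n - 3) := (eq_of_le_of_card_ge hT3E (by
    rw [card_subgroupOf h.le, h.card, hX.lc_card (by omega) (by omega),
      show n - (n - 3) = 3 by omega])).symm
  have hnorm : (E.subgroupOf S).Normal := hE3 ▸ inferInstance
  have hNS : RS S E 1 = S := le_antisymm (RS_le h.le 1) fun s hs => ⟨hs,
    mem_normalizer_of_forall (P := E) fun y hy => hnorm.conj_mem ⟨y, h.le hy⟩ hy ⟨s, hs⟩⟩
  have h4 := h.card_RS_one hS
  rw [hNS, hX.card] at h4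
  have := Nat.pow_right_injective hp.out.two_le h4
  omega

theorem Cand.central_succ (hS : Setup F p) (hp5 : 5 ≤ p) (hX : MaxCl (↥S) p n) (h5 : 5 ≤ n)
    {E : Subgroup Ω} (h : Cand F p E) {j : ℕ} (hg : Geo p S E j) (hext : Ext F p E (j + 1))
    (hj : j + 4 ≤ p) : ∀ r ∈ RS S E (j + 2), ∀ a ∈ axisOf S E, r * a = a * r := by
  by_contra hmove
  obtain ⟨τ, u, v, c, c', l, hT⟩ := h.exists_tor hS.pgroup hS.five
  have sd := h.stepData hS hg hT.c'_mem hT.c'_notMem
  set R := RS S E (j + 1) with hR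
  set R' := RS S E (j + 2) with hR'
  have hR'S : R' ≤ S := RS_le h.le _
  obtain ⟨ψ, hψ, hψe, hψw⟩ := hext τ u v c c' l hT
  have := finite_of_le hR'S
  have hRR' : R ≤ R' := RS_mono h.le (Nat.le_succ _)
  have hER : E ≤ R' := RS_mono h.le (Nat.zero_le _)
  have hpR' : IsPGroup p R' := hS.pgroup.to_le hR'S
  obtain ⟨hidx, -⟩ := sd.hyp.out hpR'
  set cc : R' := ⟨c, hER hT.c_mem⟩ with hcc
  set ll : R' := ⟨l, hER hT.l_mem⟩ with hll
  have hAR : axisOf S E ≤ R := (axisOf_le E).trans (RS_mono h.le (Nat.zero_le _))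
  set A2 := (axisOf S E).subgroupOf R' with hA2
  have hA2n : A2.Normal := normal_subgroupOf_of_conj fun t ht a ha => by
    rw [h.mem_axis_iff hg] at ha ⊢
    refine ⟨conj_mem_of_mem_normalizer ht.2 ha.1, fun r hr => ?_⟩
    have h1 := ha.2 _ (show t⁻¹ * r * t ∈ R by
      simpa using conj_mem_of_mem_normalizer (inv_mem ht.2) hr)
    have h2 := congrArg (fun q => t * q * t⁻¹) h1
    simpa [mul_assoc] using h2
  have hA : A2 = Subgroup.zpowers cc ⊔ Subgroup.zpowers ll := by
    refine map_injective R'.subtype_injective ?_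
    rw [Subgroup.map_sup, MonoidHom.map_zpowers, MonoidHom.map_zpowers,
      map_subgroupOf_eq_of_le (hAR.trans hRR')]
    exact hT.axis
  obtain ⟨w, hw⟩ : ∃ w : R', w ∉ R.subgroupOf R' := by
    by_contra hne
    push Not at hne
    exact sd.hyp.ne_top ((eq_top_iff' _).2 hne)
  have hgen : Subgroup.zpowers w ⊔ R.subgroupOf R' = ⊤ := by
    have h1 := index_dvd_of_le (le_sup_right : R.subgroupOf R' ≤ Subgroup.zpowers w ⊔ R.subgroupOf R')
    rw [hidx] at h1
    rcases (Nat.dvd_prime hp.out).1 h1 with h2 | h2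
    · exact index_eq_one.1 h2
    · exfalso
      refine hw ?_
      rw [eq_of_le_of_card_ge (le_sup_right : R.subgroupOf R' ≤ Subgroup.zpowers w ⊔ _) ?_]
      · exact mem_sup_left (mem_zpowers w)
      · have e1 := (Subgroup.zpowers w ⊔ R.subgroupOf R').card_mul_index
        have e2 := (R.subgroupOf R').card_mul_index
        rw [h2] at e1
        rw [hidx] at e2
        exact (Nat.eq_of_mul_eq_mul_right hp.out.pos (e1.trans e2.symm)).le
  have hA2c : Nat.card A2 = p ^ 2 := by rw [hA2, card_subgroupOf (hAR.trans hRR'), h.axis_card hS]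
  have hu1 : (u : ZMod p) ≠ 1 := fun e => by
    have := Nat.le_of_dvd one_pos (hT.prim 1 (by rw [pow_one]; exact e))
    omega
  have hu0 : (u : ZMod p) ≠ 0 := fun e => by
    have := hT.inv; rw [e, zero_mul] at this; exact zero_ne_one this
  have hmoved : ∃ a ∈ A2, ⁅w, a⁆ ≠ 1 := by
    by_contra hne
    push Not at hne
    refine hmove fun r hr a ha => ?_
    have hle : Subgroup.zpowers w ⊔ R.subgroupOf R' ≤
        Subgroup.centralizer ({⟨a, hRR' (hAR ha)⟩} : Set R') :=
      sup_le (zpowers_le.2 (mem_centralizer_singleton_iff.2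
        (commutatorElement_eq_one_iff_mul_comm.1 (hne ⟨a, hRR' (hAR ha)⟩ ha))))
        fun q hq => mem_centralizer_singleton_iff.2 (Subtype.ext (hg.central q hq a ha))
    rw [hgen] at hle
    exact congrArg Subtype.val (mem_centralizer_singleton_iff.1
      (hle (Subgroup.mem_top (⟨r, hr⟩ : R'))))
  have hRn : (R.subgroupOf R').Normal := sd.hyp.rNormal
  have hψw' : ∃ r ∈ R.subgroupOf R', ψ w = r * w ^ (u ^ (j + 3)) := by
    refine ⟨ψ w * (w ^ (u ^ (j + 3)))⁻¹, ?_, by group⟩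
    have := hψw w
    rw [mem_subgroupOf]
    push_cast
    exact this
  rcases moved_cases hpR' (A := A2) (R := R.subgroupOf R') (c := cc) (l := ll) (ψ := ψ) (u := u)
    (m := u ^ (j + 3)) hA hA2c (Subtype.ext (by simpa [hcc] using h.pow c hT.c_mem))
    (Subtype.ext (by simpa [hll] using h.pow l hT.l_mem))
    (Subtype.ext (h.comm c hT.c_mem l hT.l_mem))
    (fun r hr a ha => Subtype.ext (hg.central r hr a ha))
    (Subtype.ext (by
      rw [hcc]
      exact ((hψe ⟨c, hT.c_mem⟩ _).trans (hT.tau_c _)).trans (by simp)))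
    (Subtype.ext ((hψe ⟨l, hT.l_mem⟩ _).trans (hT.tau_l _))) hu1 hgen hψw' hmoved with h1 | ⟨h1, h2⟩
  · rw [Nat.cast_pow, show j + 3 = j + 2 + 1 by omega, pow_succ] at h1
    have h3 : (u : ZMod p) ^ (j + 2) = 1 := mul_right_cancel₀ hu0 (h1.symm.trans (one_mul _).symm)
    have := Nat.le_of_dvd (by omega) (hT.prim _ h3)
    omega
  · rw [Nat.cast_mul, Nat.cast_pow, ← pow_succ] at h1
    obtain ⟨q, hq⟩ := hT.prim _ h1
    have hq1 : q = 1 := by
      rcases q with _ | _ | q
      · omega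
      · rfl
      · exfalso
        rw [mul_add, mul_add] at hq
        omega
    subst hq1
    refine h.no_moved hS hp5 hX h5 hg (by omega) sd.card hmove hT fun a ha hac => ?_
    have := h2 ⟨a, hRR' (hAR ha)⟩ ha (mem_center_iff.2 fun g => Subtype.ext (hac g g.2))
    obtain ⟨i, hi⟩ := mem_zpowers_iff.1 this
    exact mem_zpowers_iff.2 ⟨i, by simpa [hll] using congrArg Subtype.val hi⟩

theorem geo_all (hS : Setup F p) (hp5 : 5 ≤ p) (hX : MaxCl (↥S) p n) (h5 : 5 ≤ n) :
    ∀ j, j + 3 ≤ p → ∀ E, Cand F p E → Geo p S E j ∧ Ext F p E j := by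
  intro j
  induction j with
  | zero => exact fun _ E h => ⟨h.geo_zero hS, h.ext_zero hS⟩
  | succ j ih =>
    intro hj E h
    have hall := ih (by omega)
    have hgeo := fun E h => (hall E h).1
    have hext := h.ext_succ hS hgeo (hall E h).2
    refine ⟨⟨fun i hi => ?_, h.central_succ hS hp5 hX h5 (hgeo E h) hext (by omega),
      h.geo_uniq_succ hS (hgeo E h)⟩, hext⟩
    rcases Nat.lt_or_ge i (j + 2) with hlt | hge
    · exact (hgeo E h).card i (by omega)
    · obtain rfl : i = j + 2 := by omega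
      obtain ⟨e, he, he'⟩ := h.exists_notMem_axis hS
      exact (h.stepData hS (hgeo E h) he he').card

/-- No candidate exists. -/
theorem no_cand (hS : Setup F p) (hp5 : 5 ≤ p) (hX : MaxCl (↥S) p n) (h5 : 5 ≤ n)
    {E : Subgroup Ω} (h : Cand F p E) : False := by
  obtain ⟨hg, -⟩ := geo_all hS hp5 hX h5 (p - 3) (by omega) E h
  obtain ⟨e, he, he'⟩ := h.exists_notMem_axis hS
  have sd := h.stepData hS hg he he'
  set R := RS S E (p - 3 + 1) with hR
  set Rm := RS S E (p - 3) with hRm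
  set R' := RS S E (p - 3 + 2) with hR'
  have hRS : R ≤ S := RS_le h.le _
  have hR'S : R' ≤ S := RS_le h.le _
  have := finite_of_le hRS
  have := finite_of_le hR'S
  have := finite_of_le (RS_le (S := S) h.le (p - 3))
  have hRR' : R ≤ R' := RS_mono h.le (Nat.le_succ _)
  have hER : E ≤ R := RS_mono h.le (Nat.zero_le _)
  have hpR : IsPGroup p R := hS.pgroup.to_le hRS
  obtain ⟨w, hwR', hwR⟩ : ∃ w ∈ R', w ∉ R := SetLike.not_le_iff_exists.1 fun hle =>
    sd.hyp.ne_top ((eq_top_iff' _).2 fun x => hle x.2)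
  set E2 := conjSub w E
  have hE2 : E2 ≤ R := by
    intro y hy
    rw [mem_conjSub] at hy
    have := conj_mem_of_mem_normalizer hwR'.2 (hER hy)
    simpa [mul_assoc] using this
  have hgen : R ≤ E ⊔ E2 := by
    refine hg.uniq _ le_sup_left (sup_le hER hE2) fun hle => hwR ?_
    refine ⟨hwR'.1, mem_normalizer_of_forall fun x hx => ?_⟩
    have hmem : E ⊔ dSub p S E R ≤ Rm.comap (MulAut.conj w).toMonoidHom := by
      refine sup_le (fun y hy => hle (mem_sup_right ?_)) fun y hy => ?_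
      · show w * y * w⁻¹ ∈ conjSub w E
        exact conj_mem_conjSub hy
      · have hyR' : y ∈ R' := hRR' ((sup_le (phiSub_le R) ((axisOf_le E).trans hER) :
          dSub p S E R ≤ R) hy)
        exact sd.hyp.dle (sd.hyp.dNormal.conj_mem ⟨y, hyR'⟩ hy ⟨w, hwR'⟩)
    rw [← sd.gen] at hmem
    exact hmem hx
  have hcR : Nat.card R = p ^ (p + 1) := by
    rw [hg.card _ le_rfl]; congr 1; omega
  -- exponent `p`
  have hcl : (⊤ : Subgroup R).lowerCentralSeries (p - 1) = ⊥ := by
    have hAR : axisOf S E ≤ R := (axisOf_le E).trans hER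
    refine class_lt_of_central (by omega) (A := (axisOf S E).subgroupOf R) (fun a ha =>
      mem_center_iff.2 fun r => Subtype.ext (hg.central r r.2 a ha)) ?_
    rw [card_subgroupOf hAR, h.axis_card hS, hcR, ← pow_add]
    congr 1; omega
  have hexp : ∀ x : R, x ^ p = 1 := by
    refine exp_of_generators hpR hcl (T := (↑(E.subgroupOf R) ∪ ↑(E2.subgroupOf R) : Set R)) ?_ ?_
    · rw [Subgroup.closure_union, closure_eq, closure_eq, ← Subgroup.subgroupOf_sup hER hE2,
        subgroupOf_eq_top]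
      exact hgen
    · rintro x (hx | hx)
      · exact Subtype.ext (by simpa using h.pow _ hx)
      · have h1 : (w⁻¹ * (x : Ω) * w) ^ p = 1 := h.pow _ (mem_conjSub.1 hx)
        have h2 : ((x : Ω)) ^ p = w * (w⁻¹ * (x : Ω) * w) ^ p * w⁻¹ := by
          rw [← conj_pow]; group
        exact Subtype.ext (by rw [SubmonoidClass.coe_pow, h2, h1, mul_one, mul_inv_cancel]; rfl)
  -- too large
  set R1 := R.subgroupOf S with hR1
  set K := R1 ⊓ lc (↥S) 2 with hK
  have h1 : Nat.card K ≤ p ^ (p - 1) := by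
    have := CfsgLib.PGroup.UniformElement.card_le_mul_card_powers hX (K := K) (N := ⊥) inf_le_right fun k hk => by
      rw [mem_bot]
      exact Subtype.ext (by simpa using congrArg Subtype.val (hexp ⟨k, hk.1⟩))
    rwa [card_bot, mul_one] at this
  have h2 : (lc (↥S) 2).relIndex R1 ≤ p := by
    have hne : R1 ⊔ lc (↥S) 2 ≠ ⊤ := by
      intro he2
      refine (h.RS_ne hS hg) (le_antisymm hRS ?_)
      have hfr : lc (↥S) 2 ≤ frattini (↥S) := by
        rw [CfsgLib.PGroup.UniformElement.lc_two_eq_commutator]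
        exact CfsgLib.PGroup.commutator_le_frattini hX.pgroup
      have h3 := CfsgLib.PGroup.eq_top_of_sup_frattini
        (top_le_iff.1 (he2.ge.trans (sup_le_sup_left hfr R1)))
      exact subgroupOf_eq_top.1 h3
    have hi : (lc (↥S) 2).index = p ^ 2 := by
      refine Nat.eq_of_mul_eq_mul_left (Nat.card_pos (α := lc (↥S) 2)) ?_
      rw [card_mul_index, hX.lc_card le_rfl (by omega), hX.card, ← pow_add]
      congr 1; omega
    have h4 := Subgroup.relIndex_mul_index (le_sup_right : lc (↥S) 2 ≤ R1 ⊔ lc (↥S) 2)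
    have h5' : p ≤ (R1 ⊔ lc (↥S) 2).index := by
      obtain ⟨i, hi', hie⟩ := (Nat.dvd_prime_pow hp.out).1 (hi ▸ index_dvd_of_le
        (le_sup_right : lc (↥S) 2 ≤ R1 ⊔ lc (↥S) 2))
      rw [hie]
      refine le_of_eq_of_le (pow_one p).symm (Nat.pow_le_pow_right hp.out.pos ?_)
      by_contra h0
      exact hne (index_eq_one.1 (by rw [hie, show i = 0 by omega, pow_zero]))
    rw [← Subgroup.relIndex_sup_right]
    refine Nat.le_of_mul_le_mul_right ?_ hp.out.pos
    rw [← pow_two, ← hi, ← h4]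
    rw [sup_comm]
    exact Nat.mul_le_mul_left _ (by rwa [sup_comm] at h5')
  have h3 := ((lc (↥S) 2).subgroupOf R1).card_mul_index
  rw [hR1, card_subgroupOf hRS, hcR] at h3
  have h6 : Nat.card ((lc (↥S) 2).subgroupOf R1) ≤ Nat.card K :=
    Nat.card_le_card_of_injective (fun x => (⟨x.1.1, x.1.2, x.2⟩ : K))
      fun a b e => Subtype.ext (Subtype.ext (congrArg Subtype.val e :))
  have h7 : p ^ (p + 1) ≤ p ^ (p - 1) * p := by
    rw [← h3]
    exact Nat.mul_le_mul (h6.trans h1) h2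
  rw [← pow_succ] at h7
  have := (Nat.pow_le_pow_iff_right hp.out.one_lt).1 h7
  omega

/-- The centre of a group of maximal class has order `p`. -/
theorem card_center_le (hX : MaxCl (↥S) p n) :
    Nat.card (S ⊓ Subgroup.centralizer (S : Set Ω) : Subgroup Ω) ≤ p := by
  have h4 := hX.four
  have hmap : (S ⊓ Subgroup.centralizer (S : Set Ω) : Subgroup Ω).subgroupOf S = center (↥S) := by
    ext x
    rw [mem_subgroupOf, mem_center_iff]
    exact ⟨fun hx g => Subtype.ext (hx.2 g g.2),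
      fun hx => ⟨x.2, fun y hy => congrArg Subtype.val (hx ⟨y, hy⟩)⟩⟩
  rw [← card_subgroupOf (inf_le_left : S ⊓ Subgroup.centralizer (S : Set Ω) ≤ S), hmap]
  obtain ⟨k, hk, hke⟩ := (Nat.dvd_prime_pow hp.out).1 (hX.card ▸ (center (↥S)).card_subgroup_dvd_card)
  by_contra hlt
  have hk2 : 2 ≤ k := by
    by_contra hk1
    refine hlt (hke ▸ le_of_le_of_eq (Nat.pow_le_pow_right hp.out.pos ?_) (pow_one p))
    omega
  have hi : (center (↥S)).index = p ^ (n - k) := by
    refine Nat.eq_of_mul_eq_mul_left (Nat.card_pos (α := center (↥S))) ?_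
    rw [card_mul_index, hX.card, hke, ← pow_add]
    congr 1; omega
  have hle : lc (↥S) (n - 2) ≤ center (↥S) := by
    rcases Nat.lt_or_ge (n - k) 2 with hlow | hhigh
    · have hcyc : IsMulCommutative (↥S) := by
        refine ⟨⟨fun a b => ?_⟩⟩
        have : IsCyclic (↥S ⧸ center (↥S)) := by
          rcases (show n - k = 0 ∨ n - k = 1 by omega) with h0 | h0
          · have : Subsingleton (↥S ⧸ center (↥S)) :=
              (Nat.card_eq_one_iff_unique.1 (by rw [← index_eq_card, hi, h0, pow_zero])).1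
            exact isCyclic_of_subsingleton
          · exact isCyclic_of_prime_card (by rw [← index_eq_card, hi, h0, pow_one])
        exact (MonoidHom.isMulCommutative_of_isCyclic_of_ker_le_center
          (QuotientGroup.mk' (center (↥S))) (QuotientGroup.ker_mk' _).le).is_comm.comm a b
      intro x _
      exact mem_center_iff.2 fun g => hcyc.is_comm.comm g x
    · rw [CfsgLib.Transfer.normal_eq_lowerCentralSeries hX.card hX.cls (by omega) (center (↥S))
        hhigh hi]
      exact lc_anti (show n - k ≤ n - 2 by omega)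
  refine hX.lc_lt (i := n - 2) (by omega) (by omega) ?_
  have h0 : lc (↥S) (n - 1) = ⊥ := by
    rw [show n - 1 = n - 2 + 1 by omega, Cfsg.Agent.S3806.lc_succ (by omega), eq_bot_iff,
      commutator_le]
    exact fun a ha g _ => mem_bot.2
      (commutatorElement_eq_one_iff_mul_comm.2 (mem_center_iff.1 (hle ha) g).symm)
  exfalso
  have := hX.lc_card (i := n - 1) (by omega) (by omega)
  rw [h0, card_bot, show n - (n - 1) = 1 by omega, pow_one] at this
  exact hp.out.one_lt.ne this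

end CfsgLib.Fusion.MaxClassCube
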